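import Cfsg.Agent.HexOut.Setup

/-!
# The configuration of the split case with outer 2-elements: standard form of involutions, orders

`P` is a Sylow 2-subgroup of `N_G(D)`, `t ∈ P`, `P₀ = P ∩ N(A₁) = U₁ U₂ Y`, where `Y` is abelian and consists of "pure"
outer elements.
-/

set_option autoImplicit false
set_option linter.unusedSectionVars false

namespace Cfsg.Agent.HexOut

open Subgroup Cfsg.Agent.StdEven.Syl
open scoped commutatorElement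

variable {G : Type*} [Group G]

/-- one factor -/
structure Side (B U Y : Subgroup G) (c n₀ : ℕ) : Prop where
  syl : IsSyl U B
  nB : ∀ y ∈ Y, ∀ a ∈ B, y * a * y⁻¹ ∈ B
  nU : ∀ y ∈ Y, ∀ u ∈ U, y * u * y⁻¹ ∈ U
  inn : ∀ y ∈ Y, ∀ a ∈ B, (∀ b ∈ B, y * b * y⁻¹ = a * b * a⁻¹) → Cn y B
  cls : ∀ v ∈ B, v * v = 1 → ∃ a ∈ B, a * v * a⁻¹ ∈ U ∧ Cn (a * v * a⁻¹) Y ∧
    Nat.card U ≤ c * Nat.card ↥(U ⊓ centralizer {a * v * a⁻¹})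
  out : ∀ y ∈ Y, y * y = 1 → ¬ Cn y B → Nat.card ↥(U ⊓ centralizer {y}) = n₀ ∧
    ∀ u ∈ U, (u * y) * (u * y) = 1 → ∃ d ∈ U, u * y = d * y * d⁻¹
  uni : ∀ y ∈ Y, ∀ y' ∈ Y, y * y = 1 → y' * y' = 1 → ¬ Cn y B → ¬ Cn y' B → Cn (y * y') B
  n0 : n₀ * n₀ = Nat.card U
  hc : 2 * c < n₀

/-- the configuration -/
structure Cfg (A A₁ A₂ : Subgroup G) (t : G) (P U₁ U₂ Y : Subgroup G) (c n₀ : ℕ) : Prop where
  w : Wr A A₁ A₂ t
  cen : ∀ x, (∀ a ∈ A, x * a = a * x) → x * t = t * x → (∃ k : ℕ, x ^ 2 ^ k = 1) → x = 1 ∨ x = t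
  syl : IsSyl P (MM A₁ A₂)
  tP : t ∈ P
  YP : Y ≤ P
  YK : Y ≤ KK A₁ A₂
  Yc : ∀ y ∈ Y, ∀ y' ∈ Y, y * y' = y' * y
  Yt : ∀ y ∈ Y, t * y * t⁻¹ ∈ Y
  dec : ∀ p ∈ P, p ∈ KK A₁ A₂ → ∃ u₁ ∈ U₁, ∃ u₂ ∈ U₂, ∃ y ∈ Y, p = u₁ * u₂ * y
  U1P : U₁ ≤ P
  U2P : U₂ ≤ P
  s₁ : Side A₁ U₁ Y c n₀
  s₂ : Side A₂ U₂ Y c n₀

/-- counting by fibres -/
theorem card_le_mul_of_fibre {α β : Type*} [Finite α] [Finite β] (f : α → β) (k : ℕ)
    (h : ∀ b, Nat.card {a // f a = b} ≤ k) : Nat.card α ≤ k * Nat.card β := by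
  classical
  have : Fintype α := Fintype.ofFinite α
  have : Fintype β := Fintype.ofFinite β
  have h1 : Nat.card α = ∑ b : β, Nat.card {a // f a = b} := by
    rw [Nat.card_congr (Equiv.sigmaFiberEquiv f).symm, Nat.card_sigma]
  rw [h1]
  calc ∑ b : β, Nat.card {a // f a = b} ≤ ∑ _b : β, k := Finset.sum_le_sum fun b _ => h b
    _ = k * Nat.card β := by rw [Finset.sum_const, smul_eq_mul, mul_comm, Finset.card_univ, Nat.card_eq_fintype_card]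

namespace Side

variable {B U Y : Subgroup G} {c n₀ : ℕ} (s : Side B U Y c n₀)

include s

theorem std {u y : G} (hu : u ∈ U) (hy : y ∈ Y) (hyy : y * y = 1) (h : u * (y * u * y⁻¹) = 1) :
    ∃ a ∈ B, ∃ e ∈ U, a * u * (y * a⁻¹ * y⁻¹) = e ∧ Cn e Y ∧
      ((Cn y B ∧ Nat.card U ≤ c * Nat.card ↥(U ⊓ centralizer {e})) ∨ (¬ Cn y B ∧ e = 1)) := by
  have huB := s.syl.le hu
  by_cases hB : Cn y B
  · have h1 : y * u * y⁻¹ = u := cn_iff.1 hB u huB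
    rw [h1] at h
    obtain ⟨a, ha, h2, h3, h4⟩ := s.cls u huB h
    refine ⟨a, ha, _, h2, ?_, h3, Or.inl ⟨hB, h4⟩⟩
    rw [cn_iff.1 hB _ (inv_mem ha)]
  · obtain ⟨-, h2⟩ := s.out y hy hyy hB
    obtain ⟨d, hd, e⟩ := h2 u hu (by
      calc u * y * (u * y) = u * (y * u * y⁻¹) * (y * y) := by group
        _ = 1 := by rw [h, hyy, one_mul])
    refine ⟨d⁻¹, inv_mem (s.syl.le hd), 1, one_mem _, ?_, fun a _ => by rw [one_mul, mul_one], Or.inr ⟨hB, rfl⟩⟩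
    calc d⁻¹ * u * (y * d⁻¹⁻¹ * y⁻¹) = d⁻¹ * (u * y) * d * y⁻¹ := by group
      _ = 1 := by rw [e]; group

end Side

namespace Cfg

variable {A A₁ A₂ : Subgroup G} {t : G} {P U₁ U₂ Y : Subgroup G} {c n₀ : ℕ}

section

variable (C : Cfg A A₁ A₂ t P U₁ U₂ Y c n₀)

include C

theorem comm {a b : G} (ha : a ∈ A₁) (hb : b ∈ A₂) : a * b = b * a := C.w.comm a ha b hb

theorem U1A {u : G} (hu : u ∈ U₁) : u ∈ A₁ := C.s₁.syl.le hu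
theorem U2A {u : G} (hu : u ∈ U₂) : u ∈ A₂ := C.s₂.syl.le hu

theorem symm : Cfg A A₂ A₁ t P U₂ U₁ Y c n₀ where
  w := C.w.symm
  cen := C.cen
  syl := by
    have : MM A₂ A₁ = MM A₁ A₂ := by unfold MM; rw [sup_comm]
    rw [this]; exact C.syl
  tP := C.tP
  YP := C.YP
  YK := by
    have : KK A₂ A₁ = KK A₁ A₂ := by unfold KK; rw [inf_comm]
    rw [this]; exact C.YK
  Yc := C.Yc
  Yt := C.Yt
  dec p hp hk := by
    have : KK A₂ A₁ = KK A₁ A₂ := by unfold KK; rw [inf_comm]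
    rw [this] at hk
    obtain ⟨u₁, h₁, u₂, h₂, y, hy, e⟩ := C.dec p hp hk
    exact ⟨u₂, h₂, u₁, h₁, y, hy, by rw [e, C.comm (C.U1A h₁) (C.U2A h₂)]⟩
  U1P := C.U2P
  U2P := C.U1P
  s₁ := C.s₂
  s₂ := C.s₁

end

variable [Finite G] (C : Cfg A A₁ A₂ t P U₁ U₂ Y c n₀)

include C

theorem two {x : G} (hx : x ∈ P) : ∃ k : ℕ, x ^ 2 ^ k = 1 := by
  obtain ⟨k, hk⟩ := C.syl.two ⟨x, hx⟩
  exact ⟨k, congrArg Subtype.val hk⟩

/-- `Y` acts faithfully on `D` -/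
theorem Y_faithful {y : G} (hy : y ∈ Y) (h₁ : Cn y A₁) (h₂ : Cn y A₂) : y = 1 := by
  obtain ⟨k, hk⟩ := C.two (C.YP hy)
  apply C.w.cent_D_two C.cen (x := y) _ hk
  intro d hd
  obtain ⟨a, ha, b, hb, rfl⟩ := C.w.mem_D.1 hd
  calc y * (a * b) = (y * a) * b := by group
    _ = a * (y * b) := by rw [h₁ a ha]; group
    _ = a * b * y := by rw [h₂ b hb]; group

theorem Y_inf_D {y : G} (hy : y ∈ Y) (h : y ∈ A₁ ⊔ A₂) : y = 1 := by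
  obtain ⟨a, ha, b, hb, e⟩ := C.w.mem_D.1 h
  apply C.Y_faithful hy
  · apply C.s₁.inn y hy a ha
    intro d hd
    rw [e]
    calc a * b * d * (a * b)⁻¹ = a * (b * d) * b⁻¹ * a⁻¹ := by group
      _ = a * (d * b) * b⁻¹ * a⁻¹ := by rw [C.comm hd hb]
      _ = a * d * a⁻¹ := by group
  · apply C.s₂.inn y hy b hb
    intro d hd
    have h3 := mul_mem (mul_mem hb hd) (inv_mem hb)
    rw [e]
    calc a * b * d * (a * b)⁻¹ = a * (b * d * b⁻¹) * a⁻¹ := by group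
      _ = (b * d * b⁻¹) * a * a⁻¹ := by rw [C.comm ha h3]
      _ = b * d * b⁻¹ := by group

/-- uniqueness of the decomposition -/
theorem dec_uniq {u₁ u₁' u₂ u₂' y y' : G} (h₁ : u₁ ∈ A₁) (h₁' : u₁' ∈ A₁) (h₂ : u₂ ∈ A₂) (h₂' : u₂' ∈ A₂)
    (hy : y ∈ Y) (hy' : y' ∈ Y) (e : u₁ * u₂ * y = u₁' * u₂' * y') : u₁ = u₁' ∧ u₂ = u₂' ∧ y = y' := by
  have h3 : y * y'⁻¹ = (u₁ * u₂)⁻¹ * (u₁' * u₂') := by
    calc y * y'⁻¹ = (u₁ * u₂)⁻¹ * (u₁ * u₂ * y) * y'⁻¹ := by group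
      _ = (u₁ * u₂)⁻¹ * (u₁' * u₂') := by rw [e]; group
  have m : ∀ {a b : G}, a ∈ A₁ → b ∈ A₂ → a * b ∈ A₁ ⊔ A₂ := fun ha hb => C.w.mem_D.2 ⟨_, ha, _, hb, rfl⟩
  have h4 : y * y'⁻¹ = 1 := by
    apply C.Y_inf_D (mul_mem hy (inv_mem hy'))
    rw [h3]
    exact mul_mem (inv_mem (m h₁ h₂)) (m h₁' h₂')
  have h5 : y = y' := mul_inv_eq_one.1 h4
  subst h5
  have h6 := mul_right_cancel e
  exact ⟨(C.w.uniq h₁ h₁' h₂ h₂' h6).1, (C.w.uniq h₁ h₁' h₂ h₂' h6).2, rfl⟩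

theorem P0_syl : IsSyl (P ⊓ KK A₁ A₂) (KK A₁ A₂) := C.syl.inf_normal KK_le_MM C.w.MM_le_normalizer_KK

theorem mem_MM_of_P {x : G} (hx : x ∈ P) : x ∈ MM A₁ A₂ := C.syl.le hx

/-- `U₁ = P ∩ A₁` -/
theorem inf_A₁ : P ⊓ A₁ = U₁ :=
  C.s₁.syl.max _ (C.syl.two.to_le inf_le_left) inf_le_right (le_inf C.U1P C.s₁.syl.le)

theorem inf_A₂ : P ⊓ A₂ = U₂ := C.symm.inf_A₁

/-- `P ∩ D = U₁ U₂` -/
theorem inf_D : P ⊓ (A₁ ⊔ A₂) = U₁ ⊔ U₂ := by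
  apply le_antisymm
  · intro x hx
    obtain ⟨hxP, hxD⟩ := mem_inf.1 hx
    obtain ⟨u₁, h₁, u₂, h₂, y, hy, e⟩ := C.dec x hxP (C.w.D_le_KK hxD)
    have h3 : y = 1 := by
      apply C.Y_inf_D hy
      have : y = (u₁ * u₂)⁻¹ * x := by rw [e]; group
      rw [this]
      exact mul_mem (inv_mem (C.w.mem_D.2 ⟨_, C.U1A h₁, _, C.U2A h₂, rfl⟩)) hxD
    rw [e, h3, mul_one]
    exact mul_mem (le_sup_left (b := U₂) h₁) (le_sup_right (a := U₁) h₂)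
  · exact sup_le (le_inf C.U1P (C.s₁.syl.le.trans le_sup_left)) (le_inf C.U2P (C.s₂.syl.le.trans le_sup_right))

theorem mem_S {x : G} : x ∈ U₁ ⊔ U₂ ↔ ∃ u₁ ∈ U₁, ∃ u₂ ∈ U₂, x = u₁ * u₂ := by
  constructor
  · intro hx
    rw [← C.inf_D] at hx
    obtain ⟨hxP, hxD⟩ := mem_inf.1 hx
    obtain ⟨u₁, h₁, u₂, h₂, y, hy, e⟩ := C.dec x hxP (C.w.D_le_KK hxD)
    have h3 : y = 1 := by
      apply C.Y_inf_D hy
      have : y = (u₁ * u₂)⁻¹ * x := by rw [e]; group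
      rw [this]
      exact mul_mem (inv_mem (C.w.mem_D.2 ⟨_, C.U1A h₁, _, C.U2A h₂, rfl⟩)) hxD
    exact ⟨u₁, h₁, u₂, h₂, by rw [e, h3, mul_one]⟩
  · rintro ⟨u₁, h₁, u₂, h₂, rfl⟩
    exact mul_mem (le_sup_left (b := U₂) h₁) (le_sup_right (a := U₁) h₂)

theorem tU {u : G} (hu : u ∈ U₁) : t * u * t⁻¹ ∈ U₂ := by
  rw [← C.inf_A₂]
  exact mem_inf.2 ⟨mul_mem (mul_mem C.tP (C.U1P hu)) (inv_mem C.tP), C.w.sw.1 u (C.U1A hu)⟩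

/-- the components of the square of an element of `P₀` -/
theorem sq_comp {u₁ u₂ y : G} (h₁ : u₁ ∈ U₁) (h₂ : u₂ ∈ U₂) (hy : y ∈ Y)
    (e : (u₁ * u₂ * y) * (u₁ * u₂ * y) = 1) :
    y * y = 1 ∧ u₁ * (y * u₁ * y⁻¹) = 1 ∧ u₂ * (y * u₂ * y⁻¹) = 1 := by
  have h3 := C.s₁.nU y hy u₁ h₁
  have h4 := C.s₂.nU y hy u₂ h₂
  have h5 := C.comm (C.U1A h3) (C.U2A h₂)
  have h6 : (u₁ * (y * u₁ * y⁻¹)) * (u₂ * (y * u₂ * y⁻¹)) * (y * y) = 1 * 1 * 1 := by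
    calc (u₁ * (y * u₁ * y⁻¹)) * (u₂ * (y * u₂ * y⁻¹)) * (y * y)
        = u₁ * ((y * u₁ * y⁻¹) * u₂) * (y * u₂ * y⁻¹) * (y * y) := by group
      _ = u₁ * (u₂ * (y * u₁ * y⁻¹)) * (y * u₂ * y⁻¹) * (y * y) := by rw [h5]
      _ = (u₁ * u₂ * y) * (u₁ * u₂ * y) := by group
      _ = 1 * 1 * 1 := by rw [e]; group
  obtain ⟨a, b, d⟩ := C.dec_uniq (mul_mem (C.U1A h₁) (C.U1A h3)) (one_mem _) (mul_mem (C.U2A h₂) (C.U2A h4)) (one_mem _)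
    (mul_mem hy hy) (one_mem _) h6
  exact ⟨d, a, b⟩

/-- the standard form of an involution of `P₀` -/
theorem std {u₁ u₂ y : G} (h₁ : u₁ ∈ U₁) (h₂ : u₂ ∈ U₂) (hy : y ∈ Y)
    (e : (u₁ * u₂ * y) * (u₁ * u₂ * y) = 1) :
    ∃ d ∈ A₁ ⊔ A₂, ∃ e₁ ∈ U₁, ∃ e₂ ∈ U₂, d * (u₁ * u₂ * y) * d⁻¹ = e₁ * e₂ * y ∧ Cn e₁ Y ∧ Cn e₂ Y ∧
      ((Cn y A₁ ∧ Nat.card U₁ ≤ c * Nat.card ↥(U₁ ⊓ centralizer {e₁})) ∨ (¬ Cn y A₁ ∧ e₁ = 1)) ∧
      ((Cn y A₂ ∧ Nat.card U₂ ≤ c * Nat.card ↥(U₂ ⊓ centralizer {e₂})) ∨ (¬ Cn y A₂ ∧ e₂ = 1)) := by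
  obtain ⟨hyy, k1, k2⟩ := C.sq_comp h₁ h₂ hy e
  obtain ⟨a₁, ha₁, e₁, he₁, q1, q2, q3⟩ := C.s₁.std h₁ hy hyy k1
  obtain ⟨a₂, ha₂, e₂, he₂, r1, r2, r3⟩ := C.s₂.std h₂ hy hyy k2
  refine ⟨a₁ * a₂, C.w.mem_D.2 ⟨a₁, ha₁, a₂, ha₂, rfl⟩, e₁, he₁, e₂, he₂, ?_, q2, r2, q3, r3⟩
  have m1 := C.s₁.nB y hy _ (inv_mem ha₁)
  have m2 := C.s₂.nB y hy _ (inv_mem ha₂)
  have c1 := C.comm (C.U1A h₁) ha₂
  have c2 : (a₂ * u₂ * (y * a₂⁻¹ * y⁻¹)) * (y * a₁⁻¹ * y⁻¹) = (y * a₁⁻¹ * y⁻¹) * (a₂ * u₂ * (y * a₂⁻¹ * y⁻¹)) :=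
    (C.comm m1 (mul_mem (mul_mem ha₂ (C.U2A h₂)) m2)).symm
  calc a₁ * a₂ * (u₁ * u₂ * y) * (a₁ * a₂)⁻¹
      = a₁ * (a₂ * u₁) * u₂ * y * a₂⁻¹ * a₁⁻¹ := by group
    _ = a₁ * (u₁ * a₂) * u₂ * y * a₂⁻¹ * a₁⁻¹ := by rw [c1]
    _ = a₁ * u₁ * ((a₂ * u₂ * (y * a₂⁻¹ * y⁻¹)) * (y * a₁⁻¹ * y⁻¹)) * y := by group
    _ = a₁ * u₁ * ((y * a₁⁻¹ * y⁻¹) * (a₂ * u₂ * (y * a₂⁻¹ * y⁻¹))) * y := by rw [c2]
    _ = (a₁ * u₁ * (y * a₁⁻¹ * y⁻¹)) * (a₂ * u₂ * (y * a₂⁻¹ * y⁻¹)) * y := by group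
    _ = e₁ * e₂ * y := by rw [q1, r1]

/-- lower bound for the centraliser of an element in standard form -/
theorem card_cent {e₁ e₂ y : G} (he₁ : e₁ ∈ U₁) (he₂ : e₂ ∈ U₂) (hy : y ∈ Y) (k₁ : Cn e₁ Y) (k₂ : Cn e₂ Y) :
    Nat.card ↥(U₁ ⊓ centralizer {e₁ * y}) * Nat.card ↥(U₂ ⊓ centralizer {e₂ * y}) * Nat.card Y ≤
      Nat.card ↥((P ⊓ KK A₁ A₂) ⊓ centralizer {e₁ * e₂ * y}) := by
  have hm : ∀ (x₁ : ↥(U₁ ⊓ centralizer {e₁ * y})) (x₂ : ↥(U₂ ⊓ centralizer {e₂ * y})) (x₃ : Y),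
      (x₁ : G) * x₂ * x₃ ∈ (P ⊓ KK A₁ A₂) ⊓ centralizer {e₁ * e₂ * y} := by
    intro x₁ x₂ x₃
    obtain ⟨a1, b1⟩ := mem_inf.1 x₁.2
    obtain ⟨a2, b2⟩ := mem_inf.1 x₂.2
    rw [mem_centralizer_singleton_iff] at b1 b2
    refine mem_inf.2 ⟨mem_inf.2 ⟨mul_mem (mul_mem (C.U1P a1) (C.U2P a2)) (C.YP x₃.2),
      mul_mem (C.w.D_le_KK (C.w.mem_D.2 ⟨_, C.U1A a1, _, C.U2A a2, rfl⟩)) (C.YK x₃.2)⟩, ?_⟩
    rw [mem_centralizer_singleton_iff]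
    have f1 : (x₁ : G) * (e₁ * e₂ * y) = (e₁ * e₂ * y) * x₁ := by
      have g1 := C.comm (C.U1A he₁) (C.U2A he₂)
      have g2 := C.comm (C.U1A a1) (C.U2A he₂)
      calc (x₁ : G) * (e₁ * e₂ * y) = x₁ * (e₂ * e₁) * y := by rw [g1]; group
        _ = (x₁ * e₂) * (e₁ * y) := by group
        _ = e₂ * (x₁ * (e₁ * y)) := by rw [g2]; group
        _ = e₂ * e₁ * y * x₁ := by rw [b1]; group
        _ = _ := by rw [← g1]
    have f2 : (x₂ : G) * (e₁ * e₂ * y) = (e₁ * e₂ * y) * x₂ := by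
      have g2 := C.comm (C.U1A he₁) (C.U2A a2)
      calc (x₂ : G) * (e₁ * e₂ * y) = (x₂ * e₁) * (e₂ * y) := by group
        _ = e₁ * (x₂ * (e₂ * y)) := by rw [← g2]; group
        _ = _ := by rw [b2]; group
    have f3 : (x₃ : G) * (e₁ * e₂ * y) = (e₁ * e₂ * y) * x₃ := by
      have g1 := k₁ x₃ x₃.2
      have g2 := k₂ x₃ x₃.2
      have g3 := C.Yc y hy x₃ x₃.2
      calc (x₃ : G) * (e₁ * e₂ * y) = (x₃ * e₁) * e₂ * y := by group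
        _ = e₁ * (x₃ * e₂) * y := by rw [← g1]; group
        _ = e₁ * e₂ * (x₃ * y) := by rw [← g2]; group
        _ = _ := by rw [← g3]; group
    calc (x₁ : G) * x₂ * x₃ * (e₁ * e₂ * y) = x₁ * x₂ * (x₃ * (e₁ * e₂ * y)) := by group
      _ = x₁ * (x₂ * (e₁ * e₂ * y)) * x₃ := by rw [f3]; group
      _ = (x₁ * (e₁ * e₂ * y)) * x₂ * x₃ := by rw [f2]; group
      _ = (e₁ * e₂ * y) * (x₁ * x₂ * x₃) := by rw [f1]; group
  rw [← Nat.card_prod, ← Nat.card_prod]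
  refine Nat.card_le_card_of_injective (fun x => ⟨_, hm x.1.1 x.1.2 x.2⟩) ?_
  rintro ⟨⟨x₁, x₂⟩, x₃⟩ ⟨⟨y₁, y₂⟩, y₃⟩ h
  have h1 : (x₁ : G) * x₂ * x₃ = y₁ * y₂ * y₃ := congrArg Subtype.val h
  obtain ⟨h2, h3, h4⟩ := C.dec_uniq (C.U1A (mem_inf.1 x₁.2).1) (C.U1A (mem_inf.1 y₁.2).1) (C.U2A (mem_inf.1 x₂.2).1)
    (C.U2A (mem_inf.1 y₂.2).1) x₃.2 y₃.2 h1
  rw [Prod.mk.injEq, Prod.mk.injEq]
  exact ⟨⟨Subtype.ext h2, Subtype.ext h3⟩, Subtype.ext h4⟩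

/-- for an element in standard form which is not outer on both sides the centraliser is large -/
theorem card_cent_lt {e₁ e₂ y : G} (he₁ : e₁ ∈ U₁) (he₂ : e₂ ∈ U₂) (hy : y ∈ Y) (hyy : y * y = 1) (k₁ : Cn e₁ Y)
    (k₂ : Cn e₂ Y)
    (l₁ : (Cn y A₁ ∧ Nat.card U₁ ≤ c * Nat.card ↥(U₁ ⊓ centralizer {e₁})) ∨ (¬ Cn y A₁ ∧ e₁ = 1))
    (l₂ : (Cn y A₂ ∧ Nat.card U₂ ≤ c * Nat.card ↥(U₂ ⊓ centralizer {e₂})) ∨ (¬ Cn y A₂ ∧ e₂ = 1))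
    (h : Cn y A₁ ∨ Cn y A₂) :
    2 * (n₀ * n₀) * Nat.card Y < Nat.card ↥((P ⊓ KK A₁ A₂) ⊓ centralizer {e₁ * e₂ * y}) := by
  refine lt_of_lt_of_le ?_ (C.card_cent he₁ he₂ hy k₁ k₂)
  have hY : 0 < Nat.card Y := Nat.card_pos
  refine Nat.mul_lt_mul_of_pos_right ?_ hY
  have key : ∀ {B U : Subgroup G} {e : G}, Side B U Y c n₀ → e ∈ U →
      ((Cn y B ∧ Nat.card U ≤ c * Nat.card ↥(U ⊓ centralizer {e})) ∨ (¬ Cn y B ∧ e = 1)) →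
      (Cn y B ∧ 2 * n₀ < Nat.card ↥(U ⊓ centralizer {e * y})) ∨ (¬ Cn y B ∧ Nat.card ↥(U ⊓ centralizer {e * y}) = n₀) := by
    intro B U e s he hl
    rcases hl with ⟨q1, q2⟩ | ⟨q1, q2⟩
    · left
      refine ⟨q1, ?_⟩
      have h1 : Nat.card ↥(U ⊓ centralizer {e}) ≤ Nat.card ↥(U ⊓ centralizer {e * y}) := by
        apply card_le_of_le
        intro x hx
        obtain ⟨x1, x2⟩ := mem_inf.1 hx
        refine mem_inf.2 ⟨x1, ?_⟩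
        rw [mem_centralizer_singleton_iff] at x2 ⊢
        calc x * (e * y) = (x * e) * y := by group
          _ = e * (x * y) := by rw [x2]; group
          _ = e * y * x := by rw [← q1 x (s.syl.le x1)]; group
      have h2 := s.n0
      have h3 := s.hc
      by_contra hcon
      push Not at hcon
      have h4 : n₀ * n₀ ≤ c * (2 * n₀) := by
        rw [h2]
        exact q2.trans (Nat.mul_le_mul_left _ (h1.trans hcon))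
      have h5 : c * (2 * n₀) = (2 * c) * n₀ := by ring
      rw [h5] at h4
      have h6 : n₀ ≤ 2 * c := Nat.le_of_mul_le_mul_right h4 (by omega)
      omega
    · right
      refine ⟨q1, ?_⟩
      rw [q2, one_mul]
      exact (s.out y hy hyy q1).1
  have hn := C.s₁.hc
  have hn0 : 0 < n₀ := by omega
  rcases key C.s₁ he₁ l₁ with ⟨a1, b1⟩ | ⟨a1, b1⟩ <;> rcases key C.s₂ he₂ l₂ with ⟨a2, b2⟩ | ⟨a2, b2⟩
  · nlinarith
  · rw [b2]; nlinarith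
  · rw [b1]; nlinarith
  · exfalso
    rcases h with h | h
    · exact a1 h
    · exact a2 h

/-- order of a 2-subgroup of `N(A₁) ∩ N(A₂)` -/
theorem card_le_of_KK {X : Subgroup G} (hX : IsPGroup 2 X) (hXK : X ≤ KK A₁ A₂) :
    Nat.card X ≤ Nat.card ↥(X ⊓ (A₁ ⊔ A₂)) * Nat.card Y := by
  obtain ⟨m, hm, hc⟩ := C.P0_syl.exists_conj hX hXK
  have hD : ∀ {x : G}, m * x * m⁻¹ ∈ A₁ ⊔ A₂ → x ∈ A₁ ⊔ A₂ := by
    intro x hx
    have h1 := conj_inv_mem_of_mem_normalizer (show m ∈ normalizer ((A₁ ⊔ A₂ : Subgroup G) : Set G) from KK_le_MM hm) hx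
    have : m⁻¹ * (m * x * m⁻¹) * m = x := by group
    rwa [this] at h1
  have hex : ∀ x : X, ∃ y : Y, ∃ d ∈ A₁ ⊔ A₂, m * x * m⁻¹ = d * y := by
    intro x
    obtain ⟨h1, h2⟩ := mem_inf.1 (hc x x.2)
    obtain ⟨u₁, h₁, u₂, h₂, y, hy, e⟩ := C.dec _ h1 h2
    exact ⟨⟨y, hy⟩, u₁ * u₂, C.w.mem_D.2 ⟨_, C.U1A h₁, _, C.U2A h₂, rfl⟩, e⟩
  choose f hf using hex
  apply card_le_mul_of_fibre f
  intro b
  by_cases hne : Nonempty {a // f a = b}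
  · obtain ⟨a0, ha0⟩ := hne
    refine Nat.card_le_card_of_injective (fun a : {a // f a = b} =>
      (⟨a.1 * (a0 : G)⁻¹, mem_inf.2 ⟨mul_mem a.1.2 (inv_mem a0.2), ?_⟩⟩ : ↥(X ⊓ (A₁ ⊔ A₂)))) ?_
    · obtain ⟨d, hd, e⟩ := hf a.1
      obtain ⟨d', hd', e'⟩ := hf a0
      apply hD
      rw [a.2] at e
      rw [ha0] at e'
      have : m * (a.1 * (a0 : G)⁻¹) * m⁻¹ = d * d'⁻¹ := by
        calc m * (a.1 * (a0 : G)⁻¹) * m⁻¹ = (m * a.1 * m⁻¹) * (m * a0 * m⁻¹)⁻¹ := by group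
          _ = d * d'⁻¹ := by rw [e, e']; group
      rw [this]
      exact mul_mem hd (inv_mem hd')
    · intro a a' h
      have h1 : (a.1 : G) * (a0 : G)⁻¹ = a'.1 * (a0 : G)⁻¹ := congrArg Subtype.val h
      exact Subtype.ext (Subtype.ext (mul_right_cancel h1))
  · rw [not_nonempty_iff] at hne
    rw [Nat.card_of_isEmpty]
    exact Nat.zero_le _

/-- order of the 2-subgroups of `C(t)` -/
theorem card_le_of_cent {X : Subgroup G} (hX : IsPGroup 2 X) (hXt : ∀ x ∈ X, x * t = t * x) :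
    Nat.card X ≤ 2 * (n₀ * n₀) * Nat.card Y := by
  have hXM : X ≤ MM A₁ A₂ := fun x hx => C.w.cent_t_le (hXt x hx)
  -- index at most two
  have h1 : Nat.card X ≤ Nat.card ↥(X ⊓ KK A₁ A₂) * 2 := by
    classical
    have h2 : Nat.card Bool = 2 := by rw [Nat.card_eq_fintype_card, Fintype.card_bool]
    rw [← h2]
    apply card_le_mul_of_fibre (fun x : X => decide ((x : G) ∈ KK A₁ A₂))
    intro b
    by_cases hne : Nonempty {a : X // decide ((a : G) ∈ KK A₁ A₂) = b}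
    · obtain ⟨a0, ha0⟩ := hne
      refine Nat.card_le_card_of_injective (fun a : {a : X // decide ((a : G) ∈ KK A₁ A₂) = b} =>
        (⟨a.1 * (a0 : G)⁻¹, mem_inf.2 ⟨mul_mem a.1.2 (inv_mem a0.2), ?_⟩⟩ : ↥(X ⊓ KK A₁ A₂))) ?_
      · have h3 := a.2.trans ha0.symm
        have h4 : (a.1 : G) ∈ KK A₁ A₂ ↔ (a0 : G) ∈ KK A₁ A₂ := by
          have := congrArg (fun b => b = true) h3
          simpa using this
        by_cases h5 : (a0 : G) ∈ KK A₁ A₂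
        · exact mul_mem (h4.2 h5) (inv_mem h5)
        · have h6 : (a.1 : G) ∉ KK A₁ A₂ := fun h => h5 (h4.1 h)
          have h7 := (C.w.KK_or (hXM a0.2)).resolve_left h5
          have h8 := (C.w.KK_or (hXM a.1.2)).resolve_left h6
          have h9 : Swaps A₁ A₂ (a0 : G)⁻¹ := by
            rcases C.w.KK_or (inv_mem (hXM a0.2)) with h | h
            · exfalso
              have := inv_mem h
              rw [inv_inv] at this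
              exact h5 this
            · exact h
          rw [mem_KK]
          exact swaps_mul_swaps h8 h9
      · intro a a' h
        have h1 : (a.1 : G) * (a0 : G)⁻¹ = a'.1 * (a0 : G)⁻¹ := congrArg Subtype.val h
        exact Subtype.ext (Subtype.ext (mul_right_cancel h1))
    · rw [not_nonempty_iff] at hne
      rw [Nat.card_of_isEmpty]
      exact Nat.zero_le _
  have h2 := C.card_le_of_KK (hX.to_le (inf_le_left (b := KK A₁ A₂))) inf_le_right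
  -- the intersection with `D`
  have h3 : Nat.card ↥((X ⊓ KK A₁ A₂) ⊓ (A₁ ⊔ A₂)) ≤ n₀ * n₀ := by
    rw [C.s₁.n0]
    set Z := (X ⊓ KK A₁ A₂) ⊓ (A₁ ⊔ A₂) with hZ
    have hdiag : ∀ z ∈ Z, ∃ a ∈ A₁, z = a * (t * a * t⁻¹) := by
      intro z hz
      obtain ⟨a, ha, b, hb, e⟩ := C.w.mem_D.1 (mem_inf.1 hz).2
      refine ⟨a, ha, ?_⟩
      have h4 := hXt z (mem_inf.1 (mem_inf.1 hz).1).1
      have h5 : a * b = (t * b * t⁻¹) * (t * a * t⁻¹) := by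
        have h6 : t * z * t⁻¹ = z := by rw [← h4]; group
        rw [e] at h6
        have h7 := C.comm (C.w.sw.2 b hb) (C.w.sw.1 a ha)
        calc a * b = t * (a * b) * t⁻¹ := h6.symm
          _ = (t * a * t⁻¹) * (t * b * t⁻¹) := by group
          _ = _ := h7.symm
      have h6 := C.w.uniq ha (C.w.sw.2 b hb) hb (C.w.sw.1 a ha) h5
      rw [e, ← h6.2]
    -- the projection to `A₁`
    let W : Subgroup G :=
      { carrier := {a | a ∈ A₁ ∧ a * (t * a * t⁻¹) ∈ Z}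
        one_mem' := ⟨one_mem _, by simp⟩
        mul_mem' := by
          rintro a b ⟨ha, ha'⟩ ⟨hb, hb'⟩
          refine ⟨mul_mem ha hb, ?_⟩
          have := C.comm hb (C.w.sw.1 a ha)
          have e : a * b * (t * (a * b) * t⁻¹) = (a * (t * a * t⁻¹)) * (b * (t * b * t⁻¹)) := by
            calc a * b * (t * (a * b) * t⁻¹) = a * (b * (t * a * t⁻¹)) * (t * b * t⁻¹) := by group
              _ = a * ((t * a * t⁻¹) * b) * (t * b * t⁻¹) := by rw [this]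
              _ = _ := by group
          rw [e]
          exact mul_mem ha' hb'
        inv_mem' := by
          rintro a ⟨ha, ha'⟩
          refine ⟨inv_mem ha, ?_⟩
          have := C.comm (inv_mem ha) (inv_mem (C.w.sw.1 a ha))
          have e : a⁻¹ * (t * a⁻¹ * t⁻¹) = (a * (t * a * t⁻¹))⁻¹ := by
            calc a⁻¹ * (t * a⁻¹ * t⁻¹) = a⁻¹ * (t * a * t⁻¹)⁻¹ := by group
              _ = (t * a * t⁻¹)⁻¹ * a⁻¹ := this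
              _ = _ := by group
          rw [e]
          exact inv_mem ha' }
    have hWA : W ≤ A₁ := fun a ha => ha.1
    have hW2 : IsPGroup 2 W := by
      rintro ⟨a, ha, ha'⟩
      obtain ⟨k, hk⟩ := hX ⟨_, (mem_inf.1 (mem_inf.1 ha').1).1⟩
      have hk' : (a * (t * a * t⁻¹)) ^ 2 ^ k = 1 := congrArg Subtype.val hk
      refine ⟨k, Subtype.ext ?_⟩
      show a ^ 2 ^ k = 1
      have hc : Commute a (t * a * t⁻¹) := C.comm ha (C.w.sw.1 a ha)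
      rw [hc.mul_pow] at hk'
      have h5 : (t * a * t⁻¹) ^ 2 ^ k ∈ A₂ := pow_mem (C.w.sw.1 a ha) _
      exact (C.w.uniq (pow_mem ha _) (one_mem _) h5 (one_mem _) (by rw [hk', one_mul])).1
    refine le_trans ?_ (C.s₁.syl.card_le hW2 hWA)
    have hch : ∀ z : Z, ∃ a : W, (z : G) = a * (t * a * t⁻¹) := by
      intro z
      obtain ⟨a, ha, e⟩ := hdiag z z.2
      exact ⟨⟨a, ha, by rw [← e]; exact z.2⟩, e⟩
    choose g hg using hch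
    refine Nat.card_le_card_of_injective g ?_
    intro z z' h
    apply Subtype.ext
    rw [hg z, hg z', h]
  calc Nat.card X ≤ Nat.card ↥(X ⊓ KK A₁ A₂) * 2 := h1
    _ ≤ (Nat.card ↥((X ⊓ KK A₁ A₂) ⊓ (A₁ ⊔ A₂)) * Nat.card Y) * 2 := Nat.mul_le_mul_right _ h2
    _ ≤ ((n₀ * n₀) * Nat.card Y) * 2 := Nat.mul_le_mul_right _ (Nat.mul_le_mul_right _ h3)
    _ = 2 * (n₀ * n₀) * Nat.card Y := by ring

end Cfg

end Cfsg.Agent.HexOut
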