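import Cfsg.Agent.HexOut.FThree

/-!
# The end: `P ∩ E = U₁ U₂`
-/

set_option autoImplicit false
set_option linter.unusedSectionVars false

namespace Cfsg.Agent.HexOut

open Subgroup Cfsg.Agent.StdEven.Syl Cfsg.Agent.StdRank2.OutSplit
open scoped commutatorElement

variable {G : Type*} [Group G]

/-- a Sylow 2-subgroup of `M ∩ C` is Sylow in `C` if its normaliser in `C` lies in `M` -/
theorem isSyl_of_normalizer [Finite G] {X M C : Subgroup G} (h : IsSyl X (M ⊓ C))
    (hn : ∀ n ∈ C, n ∈ normalizer (X : Set G) → n ∈ M) : IsSyl X C := by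
  have : Fact (Nat.Prime 2) := ⟨Nat.prime_two⟩
  refine ⟨h.le.trans inf_le_right, h.two, fun S hS hSC hle => ?_⟩
  by_contra hne
  -- inside `C`
  have hXC : X ≤ C := h.le.trans inf_le_right
  obtain ⟨Q, hQ, hSQ⟩ := exists_isSyl hS hSC
  have hlt : X.subgroupOf C < Q.subgroupOf C := by
    refine lt_of_le_of_ne (fun x hx => mem_subgroupOf.2 (hSQ (hle (mem_subgroupOf.1 hx)))) fun h1 => hne ?_
    apply le_antisymm _ hle
    intro s hs
    have h2 : (⟨s, hSC hs⟩ : C) ∈ Q.subgroupOf C := mem_subgroupOf.2 (hSQ hs)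
    rw [← h1] at h2
    exact mem_subgroupOf.1 h2
  have h2 := Cfsg.Agent.SmallSimple.SylowMaxInter.lt_inf_normalizer (P := Q.subgroupOf C) hQ.two.comap_subtype hlt
  obtain ⟨n, hn1, hn2⟩ := SetLike.exists_of_lt h2
  obtain ⟨hnQ, hnN⟩ := mem_inf.1 hn1
  have hnQ' : (n : G) ∈ Q := mem_subgroupOf.1 hnQ
  have hnX : ∀ x ∈ X, (n : G) * x * (n : G)⁻¹ ∈ X := fun x hx => by
    have h3 := conj_mem_of_mem_normalizer hnN (x := (⟨x, hXC hx⟩ : C)) (mem_subgroupOf.2 hx)
    exact mem_subgroupOf.1 h3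
  have hnN' : (n : G) ∈ normalizer (X : Set G) := mem_normalizer_of_conj_le hnX
  have hnM := hn n n.2 hnN'
  -- the group generated by `X` and `n`
  have hT : X ⊔ zpowers (n : G) ≤ Q := sup_le (hle.trans hSQ) (zpowers_le.2 hnQ')
  have h5 := h.max (X ⊔ zpowers (n : G)) (hQ.two.to_le hT)
    (sup_le h.le (zpowers_le.2 (mem_inf.2 ⟨hnM, n.2⟩))) le_sup_left
  apply hn2
  rw [mem_subgroupOf]
  have h6 : (n : G) ∈ X ⊔ zpowers (n : G) := le_sup_right (a := X) (mem_zpowers _)
  rwa [h5] at h6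

namespace Side

variable {B U Y : Subgroup G} {c n₀ : ℕ} (s : Side B U Y c n₀)

include s

/-- **2-subgroups of `B` centralised by an outer involution.** -/
theorem card_le_of_outer [Finite G] {y : G} (hy : y ∈ Y) (hyy : y * y = 1) (hB : ¬ Cn y B) {X : Subgroup G}
    (hX : IsPGroup 2 X) (hXB : X ≤ B) (hXy : ∀ x ∈ X, x * y = y * x) : Nat.card X ≤ n₀ := by
  obtain ⟨h1, h2⟩ := s.out y hy hyy hB
  have hyi : y⁻¹ = y := inv_eq_of_mul_eq_one_right hyy
  have hyB : y ∉ B := fun h => hB (s.inn y hy y h fun b _ => rfl)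
  -- the group `B⟨y⟩`
  have form : ∀ {V : Subgroup G}, (∀ v ∈ V, y * v * y⁻¹ ∈ V) → ∀ g ∈ V ⊔ zpowers y, ∃ v ∈ V, g = v ∨ g = v * y := by
    intro V hV g hg
    let S : Subgroup G :=
      { carrier := {g | ∃ v ∈ V, g = v ∨ g = v * y}
        one_mem' := ⟨1, one_mem _, Or.inl rfl⟩
        mul_mem' := by
          rintro a b ⟨v, hv, e⟩ ⟨w, hw, f⟩
          have hw' : y * w * y ∈ V := by
            have := hV w hw
            rwa [hyi] at this
          rcases e with rfl | rfl <;> rcases f with rfl | rfl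
          · exact ⟨a * b, mul_mem hv hw, Or.inl rfl⟩
          · exact ⟨a * w, mul_mem hv hw, Or.inr (by group)⟩
          · refine ⟨v * (y * b * y), mul_mem hv hw', Or.inr ?_⟩
            calc v * y * b = v * y * b * (y * y) := by rw [hyy, mul_one]
              _ = v * (y * b * y) * y := by group
          · refine ⟨v * (y * w * y), mul_mem hv hw', Or.inl ?_⟩
            group
        inv_mem' := by
          rintro a ⟨v, hv, e⟩
          rcases e with rfl | rfl
          · exact ⟨a⁻¹, inv_mem hv, Or.inl rfl⟩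
          · refine ⟨y * v⁻¹ * y⁻¹, hV _ (inv_mem hv), Or.inr ?_⟩
            rw [mul_inv_rev, inv_mul_cancel_right, hyi] }
    have hle : V ⊔ zpowers y ≤ S := sup_le (fun v hv => ⟨v, hv, Or.inl rfl⟩)
      (zpowers_le.2 ⟨1, one_mem _, Or.inr (by rw [one_mul])⟩)
    exact hle hg
  have hnB := s.nB y hy
  have hnU := s.nU y hy
  -- `U⟨y⟩` is a 2-group
  have hU2 : IsPGroup 2 (U ⊔ zpowers y : Subgroup G) := by
    rintro ⟨g, hg⟩
    obtain ⟨u, hu, e⟩ := form hnU g hg
    rcases e with rfl | rfl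
    · obtain ⟨k, hk⟩ := s.syl.two ⟨g, hu⟩
      refine ⟨k, Subtype.ext ?_⟩
      have h3 : g ^ 2 ^ k = 1 := congrArg Subtype.val hk
      exact h3
    · have h3 : (u * y) * (u * y) ∈ U := by
        have h4 := hnU u hu
        have : (u * y) * (u * y) = u * (y * u * y⁻¹) * (y * y) := by group
        rw [this, hyy, mul_one]
        exact mul_mem hu h4
      obtain ⟨k, hk⟩ := s.syl.two ⟨_, h3⟩
      refine ⟨k + 1, Subtype.ext ?_⟩
      show (u * y) ^ 2 ^ (k + 1) = 1
      rw [pow_succ', pow_mul, pow_two]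
      exact congrArg Subtype.val hk
  -- it is a Sylow subgroup of `B⟨y⟩`
  have hUB : U ⊔ zpowers y ≤ B ⊔ zpowers y := sup_le (s.syl.le.trans le_sup_left) le_sup_right
  have hinf : ∀ {T : Subgroup G}, IsPGroup 2 T → T ≤ B ⊔ zpowers y → U ⊔ zpowers y ≤ T → T = U ⊔ zpowers y := by
    intro T hT hTB hUT
    apply le_antisymm _ hUT
    have h3 : T ⊓ B = U := s.syl.max _ (hT.to_le inf_le_left) inf_le_right
      (le_inf ((le_sup_left (b := zpowers y)).trans hUT) s.syl.le)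
    intro g hg
    obtain ⟨b, hb, e⟩ := form hnB g (hTB hg)
    rcases e with rfl | rfl
    · apply le_sup_left (b := zpowers y)
      rw [← h3]; exact mem_inf.2 ⟨hg, hb⟩
    · have hyT : y ∈ T := hUT (le_sup_right (a := U) (mem_zpowers y))
      have hbT : b ∈ T := (mul_mem_cancel_right hyT).1 hg
      have hbU : b ∈ U := by rw [← h3]; exact mem_inf.2 ⟨hbT, hb⟩
      exact mul_mem (le_sup_left (b := zpowers y) hbU) (le_sup_right (a := U) (mem_zpowers y))
  have hsyl : IsSyl (U ⊔ zpowers y) (B ⊔ zpowers y) := ⟨hUB, hU2, fun T hT hTB hUT => hinf hT hTB hUT⟩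
  -- `X⟨y⟩` is a 2-group
  have hXn : ∀ x ∈ X, y * x * y⁻¹ ∈ X := fun x hx => by
    have : y * x * y⁻¹ = x := by rw [← hXy x hx]; group
    rw [this]; exact hx
  have hX2 : IsPGroup 2 (X ⊔ zpowers y : Subgroup G) := by
    rintro ⟨g, hg⟩
    obtain ⟨u, hu, e⟩ := form hXn g hg
    rcases e with rfl | rfl
    · obtain ⟨k, hk⟩ := hX ⟨g, hu⟩
      refine ⟨k, Subtype.ext ?_⟩
      have h3 : g ^ 2 ^ k = 1 := congrArg Subtype.val hk
      exact h3
    · have h3 : (u * y) * (u * y) ∈ X := by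
        have h4 := hXn u hu
        have : (u * y) * (u * y) = u * (y * u * y⁻¹) * (y * y) := by group
        rw [this, hyy, mul_one]
        exact mul_mem hu h4
      obtain ⟨k, hk⟩ := hX ⟨_, h3⟩
      refine ⟨k + 1, Subtype.ext ?_⟩
      show (u * y) ^ 2 ^ (k + 1) = 1
      rw [pow_succ', pow_mul, pow_two]
      exact congrArg Subtype.val hk
  obtain ⟨n, hn, hc⟩ := hsyl.exists_conj hX2 (sup_le (hXB.trans le_sup_left) le_sup_right)
  -- the conjugating element may be taken in `B`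
  obtain ⟨a, ha, e⟩ := form hnB n hn
  have hcx : ∀ x ∈ X ⊔ zpowers y, (∀ x' ∈ X, x' * y = y * x') → x * y = y * x → a * x * a⁻¹ ∈ U ⊔ zpowers y := by
    intro x hx _ hxy
    have h3 := hc x hx
    rcases e with rfl | rfl
    · exact h3
    · have : a * y * x * (a * y)⁻¹ = a * x * a⁻¹ := by
        calc a * y * x * (a * y)⁻¹ = a * (y * x) * y⁻¹ * a⁻¹ := by group
          _ = a * (x * y) * y⁻¹ * a⁻¹ := by rw [hxy]
          _ = _ := by group
      rwa [this] at h3
  have hy3 : a * y * a⁻¹ ∈ U ⊔ zpowers y := hcx y (le_sup_right (a := X) (mem_zpowers y)) hXy rfl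
  have hX3 : ∀ x ∈ X, a * x * a⁻¹ ∈ U := by
    intro x hx
    obtain ⟨u, hu, e⟩ := form hnU _ (hcx x (le_sup_left (b := zpowers y) hx) hXy (hXy x hx))
    rcases e with e | e
    · rw [e]; exact hu
    · exfalso
      apply hyB
      have : y = u⁻¹ * (a * x * a⁻¹) := by rw [e]; group
      rw [this]
      exact mul_mem (inv_mem (s.syl.le hu)) (mul_mem (mul_mem ha (hXB hx)) (inv_mem ha))
  obtain ⟨u, hu, e1⟩ := form hnU _ hy3
  have e2 : a * y * a⁻¹ = u * y := by
    rcases e1 with e1 | e1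
    · exfalso
      apply hyB
      have : y = a⁻¹ * u * a := by rw [← e1]; group
      rw [this]
      exact mul_mem (mul_mem (inv_mem ha) (s.syl.le hu)) ha
    · exact e1
  obtain ⟨d, hd, e3⟩ := h2 u hu (by
    rw [← e2]
    calc a * y * a⁻¹ * (a * y * a⁻¹) = a * (y * y) * a⁻¹ := by group
      _ = 1 := by rw [hyy]; group)
  rw [← h1]
  refine Nat.card_le_card_of_injective (fun x : X =>
    (⟨d⁻¹ * (a * x * a⁻¹) * d, mem_inf.2 ⟨mul_mem (mul_mem (inv_mem hd) (hX3 x x.2)) hd, ?_⟩⟩ :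
      ↥(U ⊓ centralizer {y}))) ?_
  · rw [mem_centralizer_singleton_iff]
    have e4 : y = d⁻¹ * (a * y * a⁻¹) * d := by rw [e2, e3]; group
    have h5 := hXy x x.2
    calc d⁻¹ * (a * x * a⁻¹) * d * y = d⁻¹ * (a * x * a⁻¹) * d * (d⁻¹ * (a * y * a⁻¹) * d) := by rw [← e4]
      _ = d⁻¹ * a * (x * y) * a⁻¹ * d := by group
      _ = d⁻¹ * a * (y * x) * a⁻¹ * d := by rw [h5]
      _ = (d⁻¹ * (a * y * a⁻¹) * d) * (d⁻¹ * (a * x * a⁻¹) * d) := by group
      _ = y * (d⁻¹ * (a * x * a⁻¹) * d) := by rw [← e4]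
  · intro x x' h
    have h3 : d⁻¹ * (a * x * a⁻¹) * d = d⁻¹ * (a * x' * a⁻¹) * d := congrArg Subtype.val h
    exact Subtype.ext (mul_left_cancel (mul_right_cancel (mul_left_cancel (mul_right_cancel h3))))

end Side

end Cfsg.Agent.HexOut
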