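import Cfsg.Agent.HexOut.Cfg

/-!
# (F1): no conjugate of `t` normalises `A₁`
-/

set_option autoImplicit false
set_option linter.unusedSectionVars false

namespace Cfsg.Agent.HexOut

open Subgroup Cfsg.Agent.StdEven.Syl
open scoped commutatorElement

variable {G : Type*} [Group G]

/-- for every involution `v` of `A` there is a 2-group, normalised by `C_A(v)`, which contains the commutator subgroups
of the 2-subgroups of `C_A(v)` -/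
def NAb (A : Subgroup G) : Prop :=
  ∀ v ∈ A, v * v = 1 → v ≠ 1 → ∃ Q : Subgroup G, IsPGroup 2 Q ∧
    (∀ g ∈ A, g * v = v * g → ∀ q ∈ Q, g * q * g⁻¹ ∈ Q) ∧
    ∀ X ≤ A, IsPGroup 2 X → (∀ x ∈ X, x * v = v * x) → ⁅X, X⁆ ≤ Q

/-- a perfect subgroup of `B` centralised by `Y`, generated by 2-elements, containing an involution, and with no normal
2-subgroup containing the commutator subgroups of its 2-subgroups -/
def HasB (B Y : Subgroup G) : Prop :=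
  ∃ K ≤ B, ⁅K, K⁆ = K ∧ K ≤ closure {x | x ∈ K ∧ ∃ k : ℕ, x ^ 2 ^ k = 1} ∧ (∀ k ∈ K, Cn k Y) ∧
    (∃ v ∈ K, v * v = 1 ∧ v ≠ 1) ∧
    ∃ X ≤ K, IsPGroup 2 X ∧ ∃ z ∈ ⁅X, X⁆, ∃ m ∈ K, ∀ k : ℕ, (z * (m * z * m⁻¹)) ^ 2 ^ k ≠ 1

theorem conj_closure_two {B : Subgroup G} (g : G) (hB : B ≤ closure {x | x ∈ B ∧ ∃ k : ℕ, x ^ 2 ^ k = 1}) :
    B.map (MulAut.conj g).toMonoidHom ≤
      closure {x | x ∈ B.map (MulAut.conj g).toMonoidHom ∧ ∃ k : ℕ, x ^ 2 ^ k = 1} := by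
  have h2 : closure {x | x ∈ B ∧ ∃ k : ℕ, x ^ 2 ^ k = 1} ≤
      (closure {x | x ∈ B.map (MulAut.conj g).toMonoidHom ∧ ∃ k : ℕ, x ^ 2 ^ k = 1}).comap
        (MulAut.conj g).toMonoidHom := by
    rw [closure_le]
    rintro y ⟨hy, k, hk⟩
    apply Subgroup.subset_closure
    refine ⟨⟨y, hy, rfl⟩, k, ?_⟩
    rw [← map_pow, hk, map_one]
  rintro _ ⟨x, hx, rfl⟩
  exact h2 (hB hx)

namespace Cfg

variable {A A₁ A₂ : Subgroup G} {t : G} {P U₁ U₂ Y : Subgroup G} {c n₀ : ℕ}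
variable [Finite G] (C : Cfg A A₁ A₂ t P U₁ U₂ Y c n₀)

include C

/-- a perfect group generated by 2-elements which commutes with `g t g⁻¹` lies in `g A g⁻¹` -/
theorem res_conj {g : G} {K : Subgroup G} (hK : ⁅K, K⁆ = K)
    (hK2 : K ≤ closure {x | x ∈ K ∧ ∃ k : ℕ, x ^ 2 ^ k = 1}) (hc : ∀ k ∈ K, k * (g * t * g⁻¹) = (g * t * g⁻¹) * k) :
    ∀ k ∈ K, g⁻¹ * k * g ∈ A := by
  have h1 : K.map (MulAut.conj g⁻¹).toMonoidHom ≤ A := by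
    apply C.w.res
    · rw [← map_commutator, hK]
    · rintro _ ⟨x, hx, rfl⟩
      show g⁻¹ * x * g⁻¹⁻¹ * t = t * (g⁻¹ * x * g⁻¹⁻¹)
      calc g⁻¹ * x * g⁻¹⁻¹ * t = g⁻¹ * (x * (g * t * g⁻¹)) * g := by group
        _ = g⁻¹ * (g * t * g⁻¹ * x) * g := by rw [hc x hx]
        _ = t * (g⁻¹ * x * g⁻¹⁻¹) := by group
    · exact conj_closure_two g⁻¹ hK2
  intro k hk
  have h2 := h1 ⟨k, hk, rfl⟩
  have e : (MulAut.conj g⁻¹).toMonoidHom k = g⁻¹ * k * g := by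
    show g⁻¹ * k * g⁻¹⁻¹ = _
    rw [inv_inv]
  rwa [e] at h2

/-- a pure element of `Y` is not conjugate to `t` -/
theorem not_conj_Y (hN : NAb A) (hB₁ : HasB A₁ Y) (hB₂ : HasB A₂ Y) {y : G} (hy : y ∈ Y) {g : G}
    (e : g * t * g⁻¹ = y) : False := by
  obtain ⟨K₁, hK₁, hp₁, hg₁, hc₁, -, X, hXK, hX2, z, hz, m, hm, hk⟩ := hB₁
  obtain ⟨K₂, hK₂, hp₂, hg₂, hc₂, ⟨v, hv, hvv, hv1⟩, -⟩ := hB₂
  have h1 : ∀ k ∈ K₁, g⁻¹ * k * g ∈ A := C.res_conj hp₁ hg₁ (fun k hk => by rw [e]; exact hc₁ k hk y hy)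
  have h2 : ∀ k ∈ K₂, g⁻¹ * k * g ∈ A := C.res_conj hp₂ hg₂ (fun k hk => by rw [e]; exact hc₂ k hk y hy)
  have hcm : ∀ k ∈ K₁, (g⁻¹ * k * g) * (g⁻¹ * v * g) = (g⁻¹ * v * g) * (g⁻¹ * k * g) := by
    intro k hk
    have h3 := C.comm (hK₁ hk) (hK₂ hv)
    calc (g⁻¹ * k * g) * (g⁻¹ * v * g) = g⁻¹ * (k * v) * g := by group
      _ = g⁻¹ * (v * k) * g := by rw [h3]
      _ = _ := by group
  obtain ⟨Q, hQ, hQn, hQc⟩ := hN (g⁻¹ * v * g) (h2 v hv) (by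
    calc (g⁻¹ * v * g) * (g⁻¹ * v * g) = g⁻¹ * (v * v) * g := by group
      _ = 1 := by rw [hvv]; group) (fun h => hv1 (by
    calc v = g * (g⁻¹ * v * g) * g⁻¹ := by group
      _ = 1 := by rw [h]; group))
  have hX' := hQc (X.map (MulAut.conj g⁻¹).toMonoidHom) (by
    rintro _ ⟨x, hx, rfl⟩
    have := h1 x (hXK hx)
    show g⁻¹ * x * g⁻¹⁻¹ ∈ A
    rwa [inv_inv]) (hX2.map _) (by
    rintro _ ⟨x, hx, rfl⟩
    have := hcm x (hXK hx)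
    show g⁻¹ * x * g⁻¹⁻¹ * _ = _ * (g⁻¹ * x * g⁻¹⁻¹)
    rwa [inv_inv])
  rw [← map_commutator] at hX'
  have hz' : g⁻¹ * z * g ∈ Q := by
    have := hX' ⟨z, hz, rfl⟩
    have e : (MulAut.conj g⁻¹).toMonoidHom z = g⁻¹ * z * g := by
      show g⁻¹ * z * g⁻¹⁻¹ = _
      rw [inv_inv]
    rwa [e] at this
  have hm' := hQn _ (h1 m hm) (hcm m hm) _ hz'
  obtain ⟨k, hk'⟩ := hQ ⟨_, mul_mem hz' hm'⟩
  have hk'' : ((g⁻¹ * z * g) * ((g⁻¹ * m * g) * (g⁻¹ * z * g) * (g⁻¹ * m * g)⁻¹)) ^ 2 ^ k = 1 :=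
    congrArg Subtype.val hk'
  apply hk k
  have e1 : (g⁻¹ * z * g) * ((g⁻¹ * m * g) * (g⁻¹ * z * g) * (g⁻¹ * m * g)⁻¹) =
      MulAut.conj g⁻¹ (z * (m * z * m⁻¹)) := by
    rw [MulAut.conj_apply]; group
  rw [e1, ← map_pow] at hk''
  exact (MulEquiv.map_eq_one_iff _).1 hk''

/-- **(F1)** -/
theorem not_keeps (hN : NAb A) (hB₁ : HasB A₁ Y) (hB₂ : HasB A₂ Y) (g : G) : g * t * g⁻¹ ∉ KK A₁ A₂ := by
  intro hK
  have hz2 : IsPGroup 2 (zpowers (g * t * g⁻¹)) := isPGroup_zpowers_of_sq (Wr.conj_sq C.w.tt)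
  obtain ⟨n, -, hn⟩ := C.P0_syl.exists_conj hz2 (zpowers_le.2 hK)
  have h1 := hn _ (mem_zpowers _)
  obtain ⟨h1P, h1K⟩ := mem_inf.1 h1
  obtain ⟨u₁, h₁, u₂, h₂, y, hy, e⟩ := C.dec _ h1P h1K
  have e' : (n * g) * t * (n * g)⁻¹ = u₁ * u₂ * y := by rw [← e]; group
  have hsq : (u₁ * u₂ * y) * (u₁ * u₂ * y) = 1 := by rw [← e']; exact Wr.conj_sq C.w.tt
  obtain ⟨d, -, e₁, he₁, e₂, he₂, ed, k₁, k₂, l₁, l₂⟩ := C.std h₁ h₂ hy hsq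
  have e'' : (d * (n * g)) * t * (d * (n * g))⁻¹ = e₁ * e₂ * y := by rw [← ed, ← e']; group
  have hyy := (C.sq_comp h₁ h₂ hy hsq).1
  by_cases hcase : Cn y A₁ ∨ Cn y A₂
  · have h2 := C.card_cent_lt he₁ he₂ hy hyy k₁ k₂ l₁ l₂ hcase
    set X := (P ⊓ KK A₁ A₂) ⊓ centralizer {e₁ * e₂ * y} with hX
    set f := d * (n * g) with hf
    have hX2 : IsPGroup 2 X := C.syl.two.to_le (inf_le_left.trans inf_le_left)
    have h3 := C.card_le_of_cent (X := X.map (MulAut.conj f⁻¹).toMonoidHom) (hX2.map _) (by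
      rintro _ ⟨x, hx, rfl⟩
      have h4 := mem_centralizer_singleton_iff.1 (mem_inf.1 hx).2
      rw [← e''] at h4
      show f⁻¹ * x * f⁻¹⁻¹ * t = t * (f⁻¹ * x * f⁻¹⁻¹)
      calc f⁻¹ * x * f⁻¹⁻¹ * t = f⁻¹ * (x * (f * t * f⁻¹)) * f := by group
        _ = f⁻¹ * ((f * t * f⁻¹) * x) * f := by rw [h4]
        _ = _ := by group)
    rw [card_map_of_injective (MulAut.conj f⁻¹).injective] at h3
    omega
  · push Not at hcase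
    have h2 : e₁ = 1 := by
      rcases l₁ with ⟨a, -⟩ | ⟨-, b⟩
      · exact absurd a hcase.1
      · exact b
    have h3 : e₂ = 1 := by
      rcases l₂ with ⟨a, -⟩ | ⟨-, b⟩
      · exact absurd a hcase.2
      · exact b
    rw [h2, h3, one_mul, one_mul] at e''
    exact C.not_conj_Y hN hB₁ hB₂ hy e''

end Cfg

end Cfsg.Agent.HexOut
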