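import Cfsg.Agent.HexOut.FTwo
import Cfsg.Agent.StdRank2.OutSplit.Group

/-!
# (F3): `z` is pure; outer involutions
-/

set_option autoImplicit false
set_option linter.unusedSectionVars false

namespace Cfsg.Agent.HexOut

open Subgroup Cfsg.Agent.StdEven.Syl Cfsg.Agent.StdRank2.OutSplit
open scoped commutatorElement

variable {G : Type*} [Group G]

namespace Cfg

variable {A A₁ A₂ : Subgroup G} {t : G} {P U₁ U₂ Y : Subgroup G} {c n₀ : ℕ} {z : G}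
variable [Finite G] (C : Cfg A A₁ A₂ t P U₁ U₂ Y c n₀)

include C

theorem Cn_t {y : G} (h : Cn (t * y * t⁻¹) A₂) : Cn y A₁ := by
  intro a ha
  have h1 := h _ (C.w.sw.1 a ha)
  have h2 : t * (y * a) * t⁻¹ = t * (a * y) * t⁻¹ := by
    calc t * (y * a) * t⁻¹ = t * y * t⁻¹ * (t * a * t⁻¹) := by group
      _ = t * a * t⁻¹ * (t * y * t⁻¹) := h1
      _ = _ := by group
  exact mul_left_cancel (mul_right_cancel h2)

/-- an involution of `Y` which is outer on both sides commutes with `t` -/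
theorem comm_t {y : G} (hy : y ∈ Y) (hyy : y * y = 1) (h₁ : ¬ Cn y A₁) (h₂ : ¬ Cn y A₂) : t * y * t⁻¹ = y := by
  have hty : t * y * t⁻¹ ∈ Y := C.Yt y hy
  have h3 : (t * y * t⁻¹) * (t * y * t⁻¹) = 1 := Wr.conj_sq hyy
  have h4 : ¬ Cn (t * y * t⁻¹) A₂ := fun h => h₁ (C.Cn_t h)
  have h5 : ¬ Cn (t * y * t⁻¹) A₁ := fun h => h₂ (C.symm.Cn_t h)
  have h6 := C.Y_faithful (mul_mem hy hty) (C.s₁.uni y hy _ hty hyy h3 h₁ h5) (C.s₂.uni y hy _ hty hyy h3 h₂ h4)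
  calc t * y * t⁻¹ = (y * y) * (t * y * t⁻¹) := by rw [hyy, one_mul]
    _ = y * (y * (t * y * t⁻¹)) := by group
    _ = y := by rw [h6, mul_one]

theorem eq_of_outer {y y' : G} (hy : y ∈ Y) (hyy : y * y = 1) (h₁ : ¬ Cn y A₁) (h₂ : ¬ Cn y A₂)
    (hy' : y' ∈ Y) (hyy' : y' * y' = 1) (h₁' : ¬ Cn y' A₁) (h₂' : ¬ Cn y' A₂) : y' = y := by
  have h6 := C.Y_faithful (mul_mem hy hy') (C.s₁.uni y hy _ hy' hyy hyy' h₁ h₁') (C.s₂.uni y hy _ hy' hyy hyy' h₂ h₂')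
  calc y' = (y * y) * y' := by rw [hyy, one_mul]
    _ = y * (y * y') := by group
    _ = y := by rw [h6, mul_one]

theorem conj₁ {u₁ u₂ y a : G} (h₂ : u₂ ∈ A₂) (ha : a ∈ A₁) (hy : y ∈ Y) :
    u₁ * u₂ * y * a * (u₁ * u₂ * y)⁻¹ = u₁ * (y * a * y⁻¹) * u₁⁻¹ := by
  have h1 := C.comm (C.s₁.nB y hy a ha) h₂
  calc u₁ * u₂ * y * a * (u₁ * u₂ * y)⁻¹ = u₁ * (u₂ * (y * a * y⁻¹)) * u₂⁻¹ * u₁⁻¹ := by group
    _ = u₁ * ((y * a * y⁻¹) * u₂) * u₂⁻¹ * u₁⁻¹ := by rw [h1]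
    _ = _ := by group

theorem conj₂ {u₁ u₂ y b : G} (h₁ : u₁ ∈ A₁) (h₂ : u₂ ∈ A₂) (hb : b ∈ A₂) (hy : y ∈ Y) :
    u₁ * u₂ * y * b * (u₁ * u₂ * y)⁻¹ = u₂ * (y * b * y⁻¹) * u₂⁻¹ := by
  have h1 := C.comm h₁ (mul_mem (mul_mem h₂ (C.s₂.nB y hy b hb)) (inv_mem h₂))
  calc u₁ * u₂ * y * b * (u₁ * u₂ * y)⁻¹ = u₁ * (u₂ * (y * b * y⁻¹) * u₂⁻¹) * u₁⁻¹ := by group
    _ = (u₂ * (y * b * y⁻¹) * u₂⁻¹) * u₁ * u₁⁻¹ := by rw [h1]
    _ = _ := by group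

/-- an element of `P₀` commuting with a swapping element which is inner on `A₁` is inner on `A₂` -/
theorem cn_of_comm {u₁ u₂ y u : G} (h₁ : u₁ ∈ U₁) (h₂ : u₂ ∈ U₂) (hy : y ∈ Y) (hu : Swaps A₁ A₂ u)
    (hu' : Swaps A₁ A₂ u⁻¹) (hc : u * (u₁ * u₂ * y) = (u₁ * u₂ * y) * u) (h : Cn y A₁) : Cn y A₂ := by
  have hk : u₂⁻¹ * (u * u₁ * u⁻¹) ∈ A₂ := mul_mem (inv_mem (C.U2A h₂)) (hu.1 _ (C.U1A h₁))
  apply C.s₂.inn y hy _ hk
  intro b hb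
  have ha : u⁻¹ * b * u ∈ A₁ := by
    have := hu'.2 b hb
    rwa [inv_inv] at this
  have h3 := C.conj₁ (u₁ := u₁) (C.U2A h₂) ha hy
  rw [cn_iff.1 h _ ha] at h3
  have h4 := C.conj₂ (C.U1A h₁) (C.U2A h₂) hb hy
  set w := u₁ * u₂ * y with hw
  have h5 : w * b * w⁻¹ = (u * u₁ * u⁻¹) * b * (u * u₁ * u⁻¹)⁻¹ := by
    have e1 : w = u * w * u⁻¹ := by rw [hc]; group
    calc w * b * w⁻¹ = (u * w * u⁻¹) * b * (u * w * u⁻¹)⁻¹ := by rw [← e1]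
      _ = u * (w * (u⁻¹ * b * u) * w⁻¹) * u⁻¹ := by group
      _ = u * (u₁ * (u⁻¹ * b * u) * u₁⁻¹) * u⁻¹ := by rw [h3]
      _ = _ := by group
  rw [h4] at h5
  calc y * b * y⁻¹ = u₂⁻¹ * (u₂ * (y * b * y⁻¹) * u₂⁻¹) * u₂ := by group
    _ = u₂⁻¹ * ((u * u₁ * u⁻¹) * b * (u * u₁ * u⁻¹)⁻¹) * u₂ := by rw [h5]
    _ = _ := by group

theorem swaps_inv {u : G} (huM : u ∈ MM A₁ A₂) (hu : Swaps A₁ A₂ u) : Swaps A₁ A₂ u⁻¹ := by
  rcases C.w.KK_or (inv_mem huM) with h | h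
  · exfalso
    have := inv_mem h
    rw [inv_inv] at this
    exact C.w.not_both (keeps_of_mem this) hu
  · exact h

/-- an involution of `P₀` commuting with a swapping element of `P` commutes with a conjugate of `t` -/
theorem exists_conj_comm {w u : G} (hw : w ∈ P) (hwK : w ∈ KK A₁ A₂) (hww : w * w = 1) (hu : u ∈ P)
    (huK : u ∉ KK A₁ A₂) (hc : u * w = w * u) : ∃ d : G, (d * t * d⁻¹) * w = w * (d * t * d⁻¹) := by
  obtain ⟨u₁, h₁, u₂, h₂, y, hy, rfl⟩ := C.dec w hw hwK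
  have huM := C.syl.le hu
  have hs := (C.w.KK_or huM).resolve_left huK
  have hs' := C.swaps_inv huM hs
  obtain ⟨hyy, k1, k2⟩ := C.sq_comp h₁ h₂ hy hww
  have hiff : Cn y A₁ ↔ Cn y A₂ := by
    constructor
    · exact C.cn_of_comm h₁ h₂ hy hs hs' hc
    · have e := C.comm (C.U1A h₁) (C.U2A h₂)
      rw [e] at hc
      exact C.symm.cn_of_comm h₂ h₁ hy ⟨hs.2, hs.1⟩ ⟨hs'.2, hs'.1⟩ hc
  by_cases hy1 : Cn y A₁
  · have hy0 : y = 1 := C.Y_faithful hy hy1 (hiff.1 hy1)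
    subst hy0
    rw [mul_one] at hc
    have e2 : u₂ = u * u₁ * u⁻¹ := by
      have h3 : u₁ * u₂ = (u * u₂ * u⁻¹) * (u * u₁ * u⁻¹) := by
        have h4 := C.comm (hs.2 _ (C.U2A h₂)) (hs.1 _ (C.U1A h₁))
        calc u₁ * u₂ = u₁ * u₂ * u * u⁻¹ := by group
          _ = u * (u₁ * u₂) * u⁻¹ := by rw [← hc]
          _ = (u * u₁ * u⁻¹) * (u * u₂ * u⁻¹) := by group
          _ = _ := h4.symm
      exact (C.w.uniq (C.U1A h₁) (hs.2 _ (C.U2A h₂)) (C.U2A h₂) (hs.1 _ (C.U1A h₁)) h3).2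
    -- `p = t⁻¹ u`
    have hp : t⁻¹ * u ∈ KK A₁ A₂ := by
      rw [mem_KK, C.w.ti]
      exact swaps_mul_swaps C.w.sw hs
    have hpP : t⁻¹ * u ∈ P := mul_mem (inv_mem C.tP) hu
    obtain ⟨v₁, hv₁, v₂, hv₂, y', hy', ep⟩ := C.dec _ hpP hp
    have hu1 : u₁ * u₁ = 1 := by simpa using k1
    obtain ⟨a, ha, hU, hcY, -⟩ := C.s₁.cls u₁ (C.U1A h₁) hu1
    set p := t⁻¹ * u with hpdef
    have hb1 : ∃ b ∈ A₁, p * u₁ * p⁻¹ = b * u₁ * b⁻¹ := by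
      refine ⟨(p * a⁻¹ * p⁻¹) * v₁ * a, mul_mem (mul_mem ((keeps_of_mem hp).1 _ (inv_mem ha)) (C.U1A hv₁)) ha, ?_⟩
      have h5 : p * (a * u₁ * a⁻¹) * p⁻¹ = v₁ * (a * u₁ * a⁻¹) * v₁⁻¹ := by
        rw [ep, C.conj₁ (C.U2A hv₂) (C.s₁.syl.le hU) hy', ← hcY y' hy']
        group
      calc p * u₁ * p⁻¹ = (p * a⁻¹ * p⁻¹) * (p * (a * u₁ * a⁻¹) * p⁻¹) * (p * a⁻¹ * p⁻¹)⁻¹ := by group
        _ = (p * a⁻¹ * p⁻¹) * (v₁ * (a * u₁ * a⁻¹) * v₁⁻¹) * (p * a⁻¹ * p⁻¹)⁻¹ := by rw [h5]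
        _ = _ := by group
    obtain ⟨b, hb, eb⟩ := hb1
    have hβ := C.w.sw.1 b hb
    refine ⟨t * b * t⁻¹, ?_⟩
    have e3 : u₂ = (t * b * t⁻¹) * (t * u₁ * t⁻¹) * (t * b * t⁻¹)⁻¹ := by
      rw [e2]
      have : u = t * p := by rw [hpdef]; group
      rw [this]
      calc t * p * u₁ * (t * p)⁻¹ = t * (p * u₁ * p⁻¹) * t⁻¹ := by group
        _ = t * (b * u₁ * b⁻¹) * t⁻¹ := by rw [eb]
        _ = _ := by group
    set β := t * b * t⁻¹ with hβdef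
    have e4 : u₁ * u₂ * 1 = β * (u₁ * (t * u₁ * t⁻¹)) * β⁻¹ := by
      have h6 := C.comm (C.U1A h₁) hβ
      rw [e3]
      calc u₁ * (β * (t * u₁ * t⁻¹) * β⁻¹) * 1 = (u₁ * β) * (t * u₁ * t⁻¹) * β⁻¹ := by group
        _ = (β * u₁) * (t * u₁ * t⁻¹) * β⁻¹ := by rw [h6]
        _ = _ := by group
    have e5 : t * (u₁ * (t * u₁ * t⁻¹)) = (u₁ * (t * u₁ * t⁻¹)) * t := by
      have h7 := C.comm (C.U1A h₁) (C.w.sw.1 _ (C.U1A h₁))
      have h8 := C.w.tts u₁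
      calc t * (u₁ * (t * u₁ * t⁻¹)) = (t * u₁ * t⁻¹) * (t * (t * u₁ * t⁻¹) * t⁻¹) * t := by group
        _ = (t * u₁ * t⁻¹) * u₁ * t := by rw [h8]
        _ = _ := by rw [← h7]
    rw [e4]
    calc β * t * β⁻¹ * (β * (u₁ * (t * u₁ * t⁻¹)) * β⁻¹) = β * (t * (u₁ * (t * u₁ * t⁻¹))) * β⁻¹ := by group
      _ = β * ((u₁ * (t * u₁ * t⁻¹)) * t) * β⁻¹ := by rw [e5]
      _ = _ := by group
  · have hy2 : ¬ Cn y A₂ := fun h => hy1 (hiff.2 h)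
    obtain ⟨d₁, hd₁, e1⟩ := (C.s₁.out y hy hyy hy1).2 u₁ h₁ (by
      calc u₁ * y * (u₁ * y) = u₁ * (y * u₁ * y⁻¹) * (y * y) := by group
        _ = 1 := by rw [k1, hyy, one_mul])
    obtain ⟨d₂, hd₂, e2⟩ := (C.s₂.out y hy hyy hy2).2 u₂ h₂ (by
      calc u₂ * y * (u₂ * y) = u₂ * (y * u₂ * y⁻¹) * (y * y) := by group
        _ = 1 := by rw [k2, hyy, one_mul])
    have hty := C.comm_t hy hyy hy1 hy2
    have hty' : t * y = y * t := by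
      calc t * y = (t * y * t⁻¹) * t := by group
        _ = y * t := by rw [hty]
    refine ⟨d₁ * d₂, ?_⟩
    have e3 : u₁ * u₂ * y = (d₁ * d₂) * y * (d₁ * d₂)⁻¹ := by
      have h6 := C.comm (C.U1A hd₁) (C.U2A h₂)
      have h7 := C.comm (C.U1A h₁) (C.U2A h₂)
      calc u₁ * u₂ * y = u₂ * (u₁ * y) := by rw [h7]; group
        _ = (u₂ * d₁) * y * d₁⁻¹ := by rw [e1]; group
        _ = d₁ * (u₂ * y) * d₁⁻¹ := by rw [← h6]; group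
        _ = _ := by rw [e2]; group
    rw [e3]
    calc d₁ * d₂ * t * (d₁ * d₂)⁻¹ * (d₁ * d₂ * y * (d₁ * d₂)⁻¹) = (d₁ * d₂) * (t * y) * (d₁ * d₂)⁻¹ := by group
      _ = (d₁ * d₂) * (y * t) * (d₁ * d₂)⁻¹ := by rw [hty']
      _ = _ := by group

/-- `z` is pure -/
theorem pure_z (F : Facts A A₁ A₂ P U₁ Y z) : Pure P (P ⊓ KK A₁ A₂) z := by
  intro g u hg hu huK hc
  obtain ⟨hgP, hgK⟩ := mem_inf.1 hg
  have h1 : (g⁻¹ * z * g) * (g⁻¹ * z * g) = 1 := by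
    calc (g⁻¹ * z * g) * (g⁻¹ * z * g) = g⁻¹ * (z * z) * g := by group
      _ = 1 := by rw [F.zz]; group
  obtain ⟨d, hd⟩ := C.exists_conj_comm hgP hgK h1 hu (fun h => huK (mem_inf.2 ⟨hu, h⟩)) hc
  apply C.not_comm_z F (g * d)
  calc (g * d) * t * (g * d)⁻¹ * z = g * ((d * t * d⁻¹) * (g⁻¹ * z * g)) * g⁻¹ := by group
    _ = g * ((g⁻¹ * z * g) * (d * t * d⁻¹)) * g⁻¹ := by rw [hd]
    _ = _ := by group

omit C [Finite G] in
theorem pure_conj {S0 : Subgroup G} {v k : G} (h : Pure P S0 z) (e : k * v * k⁻¹ = z) : Pure P S0 v := by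
  intro g u hg hu huS hc
  have e1 : g⁻¹ * v * g = (k * g)⁻¹ * z * (k * g) := by rw [← e]; group
  rw [e1] at hg hc
  exact h (k * g) u hg hu huS hc

/-- existence of an outer involution -/
theorem exists_outer {x : G} (hx : x ∈ Y) (hx1 : x ≠ 1) :
    ∃ y ∈ Y, y * y = 1 ∧ ¬ Cn y A₁ ∧ ¬ Cn y A₂ := by
  -- an involution of `Y`
  obtain ⟨k, hk⟩ := C.two (C.YP hx)
  obtain ⟨v, hv, hv1, hvv⟩ : ∃ v ∈ Y, v ≠ 1 ∧ v * v = 1 := by
    induction k generalizing x with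
    | zero => exact absurd (by simpa using hk) hx1
    | succ k ih =>
      by_cases h : x * x = 1
      · exact ⟨x, hx, hx1, h⟩
      · refine ih (mul_mem hx hx) h ?_
        rw [← pow_two, ← pow_mul, ← pow_succ']
        exact hk
  by_cases h₁ : Cn v A₁
  · have h₂ : ¬ Cn v A₂ := fun h => hv1 (C.Y_faithful hv h₁ h)
    have htv := C.Yt v hv
    have hc := C.Yc v hv _ htv
    have h3 : (t * v * t⁻¹) * (t * v * t⁻¹) = 1 := Wr.conj_sq hvv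
    have h4 : Cn (t * v * t⁻¹) A₂ := by
      intro b hb
      obtain ⟨a, ha, rfl⟩ := C.w.mem₂ hb
      calc t * v * t⁻¹ * (t * a * t⁻¹) = t * (v * a) * t⁻¹ := by group
        _ = t * (a * v) * t⁻¹ := by rw [h₁ a ha]
        _ = _ := by group
    have h5 : ¬ Cn (t * v * t⁻¹) A₁ := fun h => h₂ (C.symm.Cn_t h)
    refine ⟨v * (t * v * t⁻¹), mul_mem hv htv, ?_, ?_, ?_⟩
    · calc v * (t * v * t⁻¹) * (v * (t * v * t⁻¹)) = v * ((t * v * t⁻¹) * v) * (t * v * t⁻¹) := by group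
        _ = (v * v) * ((t * v * t⁻¹) * (t * v * t⁻¹)) := by rw [← hc]; group
        _ = 1 := by rw [hvv, h3, one_mul]
    · intro h
      apply h5
      have := h₁.inv.mul h
      have e : v⁻¹ * (v * (t * v * t⁻¹)) = t * v * t⁻¹ := by group
      rwa [e] at this
    · intro h
      apply h₂
      have := h.mul h4.inv
      have e : v * (t * v * t⁻¹) * (t * v * t⁻¹)⁻¹ = v := by group
      rwa [e] at this
  · by_cases h₂ : Cn v A₂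
    · have htv := C.Yt v hv
      have hc := C.Yc v hv _ htv
      have h3 : (t * v * t⁻¹) * (t * v * t⁻¹) = 1 := Wr.conj_sq hvv
      have h4 : Cn (t * v * t⁻¹) A₁ := by
        intro b hb
        obtain ⟨a, ha, rfl⟩ := C.symm.w.mem₂ hb
        calc t * v * t⁻¹ * (t * a * t⁻¹) = t * (v * a) * t⁻¹ := by group
          _ = t * (a * v) * t⁻¹ := by rw [h₂ a ha]
          _ = _ := by group
      have h5 : ¬ Cn (t * v * t⁻¹) A₂ := fun h => h₁ (C.Cn_t h)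
      refine ⟨v * (t * v * t⁻¹), mul_mem hv htv, ?_, ?_, ?_⟩
      · calc v * (t * v * t⁻¹) * (v * (t * v * t⁻¹)) = v * ((t * v * t⁻¹) * v) * (t * v * t⁻¹) := by group
          _ = (v * v) * ((t * v * t⁻¹) * (t * v * t⁻¹)) := by rw [← hc]; group
          _ = 1 := by rw [hvv, h3, one_mul]
      · intro h
        apply h₁
        have := h.mul h4.inv
        have e : v * (t * v * t⁻¹) * (t * v * t⁻¹)⁻¹ = v := by group
        rwa [e] at this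
      · intro h
        apply h5
        have := h₂.inv.mul h
        have e : v⁻¹ * (v * (t * v * t⁻¹)) = t * v * t⁻¹ := by group
        rwa [e] at this
    · exact ⟨v, hv, hvv, h₁, h₂⟩

end Cfg

end Cfsg.Agent.HexOut
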