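import Cfsg.Agent.HexOut.FOne

/-!
# (F2): `P` is Sylow in `G`; no conjugate of `t` centralises `z`
-/

set_option autoImplicit false
set_option linter.unusedSectionVars false

namespace Cfsg.Agent.HexOut

open Subgroup Cfsg.Agent.StdEven.Syl
open scoped commutatorElement

variable {G : Type*} [Group G]

/-- The type dependent facts. -/
structure Facts (A A₁ A₂ : Subgroup G) (P U₁ Y : Subgroup G) (z : G) : Prop where
  nab : NAb A
  b₁ : HasB A₁ Y
  b₂ : HasB A₂ Y
  zU : z ∈ ⁅U₁, U₁⁆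
  z1 : z ≠ 1
  zz : z * z = 1
  zP : ∀ p ∈ P, p ∈ KK A₁ A₂ → p * z = z * p
  ks : ∀ n ∈ normalizer ((P ⊓ KK A₁ A₂ : Subgroup G) : Set G),
    (∀ x ∈ ⁅U₁, U₁⁆, n * x * n⁻¹ ∈ A₁) ∨ (∀ x ∈ ⁅U₁, U₁⁆, n * x * n⁻¹ ∈ A₂)
  /-- a four-group of conjugates of `z` -/
  four : ∃ Q ≤ A₁, IsPGroup 2 Q ∧ (∀ q ∈ Q, Cn q Y) ∧ ∃ a ∈ ⁅Q, Q⁆, ∃ b ∈ ⁅Q, Q⁆,
    (∃ k : G, k * a * k⁻¹ = z) ∧ (∃ k : G, k * b * k⁻¹ = z) ∧ (∃ k : G, k * (a * b) * k⁻¹ = z)

namespace Cfg

variable {A A₁ A₂ : Subgroup G} {t : G} {P U₁ U₂ Y : Subgroup G} {c n₀ : ℕ} {z : G}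
variable [Finite G] (C : Cfg A A₁ A₂ t P U₁ U₂ Y c n₀) (F : Facts A A₁ A₂ P U₁ Y z)

include C F

theorem conj_not_KK (g : G) : g * t * g⁻¹ ∉ KK A₁ A₂ := C.not_keeps F.nab F.b₁ F.b₂ g

theorem mem_of_conj {g : G} (h : g * t * g⁻¹ ∈ MM A₁ A₂) : g ∈ MM A₁ A₂ :=
  C.w.mem_MM_of_swaps ((C.w.KK_or h).resolve_left (C.conj_not_KK F g))

theorem syl_top : IsSyl P ⊤ := by
  apply C.syl.top_of_normalizer
  intro n hn
  exact C.mem_of_conj F (C.syl.le (conj_mem_of_mem_normalizer hn C.tP))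

/-- `P₀` has index two in `P` -/
theorem card_P : Nat.card P = 2 * Nat.card ↥(P ⊓ KK A₁ A₂) := by
  have h1 : (P ⊓ KK A₁ A₂).relIndex P = 2 := by
    rw [relIndex, index_eq_two_iff]
    refine ⟨⟨t, C.tP⟩, fun b => ?_⟩
    have hb := C.w.KK_or (C.syl.le b.2)
    rw [mem_subgroupOf, mem_subgroupOf]
    show Xor ((b : G) * t ∈ P ⊓ KK A₁ A₂) ((b : G) ∈ P ⊓ KK A₁ A₂)
    rcases hb with hb | hb
    · right
      refine ⟨mem_inf.2 ⟨b.2, hb⟩, fun h => ?_⟩
      apply C.w.t_not_KK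
      exact (mul_mem_cancel_left hb).1 (mem_inf.1 h).2
    · left
      refine ⟨mem_inf.2 ⟨mul_mem b.2 C.tP, ?_⟩, fun h => ?_⟩
      · rw [mem_KK]; exact swaps_mul_swaps hb C.w.sw
      · exact C.w.not_both (keeps_of_mem (mem_inf.1 h).2) hb
  have h2 := card_mul_index ((P ⊓ KK A₁ A₂).subgroupOf P)
  have h3 : Nat.card ↥((P ⊓ KK A₁ A₂).subgroupOf P) = Nat.card ↥(P ⊓ KK A₁ A₂) :=
    Nat.card_congr (subgroupOfEquivOfLe inf_le_left).toEquiv
  rw [h3] at h2
  rw [relIndex] at h1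
  rw [h1] at h2
  omega

omit F in
theorem P_le_normalizer : P ≤ normalizer ((P ⊓ KK A₁ A₂ : Subgroup G) : Set G) := by
  intro p hp
  apply mem_normalizer_of_conj_le
  intro x hx
  exact mem_inf.2 ⟨mul_mem (mul_mem hp (mem_inf.1 hx).1) (inv_mem hp), C.w.KK_normal (C.syl.le hp) (mem_inf.1 hx).2⟩

/-- a swapping element of `P` does not centralise elements of `A₁` -/
theorem z_mem : z ∈ P ⊓ KK A₁ A₂ := by
  have h1 : z ∈ U₁ := commutator_le_self _ F.zU
  exact mem_inf.2 ⟨C.U1P h1, C.w.D_le_KK (le_sup_left (b := A₂) (C.U1A h1))⟩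

/-- **(F2)** no conjugate of `t` centralises `z`. -/
theorem not_comm_z (g : G) (h : (g * t * g⁻¹) * z = z * (g * t * g⁻¹)) : False := by
  set P0 := P ⊓ KK A₁ A₂ with hP0
  have hP0c : P0 ≤ centralizer {z} := fun p hp =>
    mem_centralizer_singleton_iff.2 (F.zP p (mem_inf.1 hp).1 (mem_inf.1 hp).2)
  obtain ⟨R, hR, hPR⟩ := exists_isSyl (C.P0_syl.two) hP0c
  have htop := C.syl_top F
  by_cases hcase : P0 = R
  · have hz2 : IsPGroup 2 (zpowers (g * t * g⁻¹)) := isPGroup_zpowers_of_sq (Wr.conj_sq C.w.tt)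
    obtain ⟨n, -, hn⟩ := hR.exists_conj hz2 (zpowers_le.2 (mem_centralizer_singleton_iff.2 h))
    have h1 := hn _ (mem_zpowers _)
    rw [← hcase] at h1
    apply C.conj_not_KK F (n * g)
    have e : (n * g) * t * (n * g)⁻¹ = n * (g * t * g⁻¹) * n⁻¹ := by group
    rw [e]
    exact (mem_inf.1 h1).2
  · -- `|R : P₀| = 2`
    have hlt : P0 < R := lt_of_le_of_ne hPR hcase
    have hRP : Nat.card R ≤ Nat.card P := htop.card_le hR.two le_top
    have h2 := C.card_P F
    have h3 : Nat.card P0 ∣ Nat.card R := card_dvd_of_le hPR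
    obtain ⟨k, hk⟩ := h3
    have h0 : 0 < Nat.card P0 := Nat.card_pos
    have h4 : Nat.card P0 < Nat.card R := by
      by_contra hcon
      push Not at hcon
      exact hcase (eq_of_le_of_card_ge hPR hcon)
    have hk2 : k = 2 := by
      rw [h2] at hRP
      have h5 : k ≤ 2 := by
        by_contra hcon
        push Not at hcon
        nlinarith
      have h6 : 1 < k := by
        by_contra hcon
        push Not at hcon
        nlinarith
      omega
    -- `P₀` is normal in `R`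
    have hRn : R ≤ normalizer (P0 : Set G) := by
      have h5 : P0.relIndex R = 2 := by
        have h6 := card_mul_index (P0.subgroupOf R)
        have h7 : Nat.card ↥(P0.subgroupOf R) = Nat.card P0 := Nat.card_congr (subgroupOfEquivOfLe hPR).toEquiv
        rw [h7, hk, hk2] at h6
        exact Nat.eq_of_mul_eq_mul_left h0 h6
      have h6 : (P0.subgroupOf R).Normal := normal_of_index_eq_two h5
      exact (normal_subgroupOf_iff_le_normalizer hPR).1 h6
    have hPn : P ≤ normalizer (P0 : Set G) := C.P_le_normalizer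
    have hPs : IsSyl P (normalizer (P0 : Set G)) := htop.mono hPn le_top
    obtain ⟨n, hn, hc⟩ := hPs.exists_conj hR.two hRn
    -- the image of `R` is `P`
    have hmap : R.map (MulAut.conj n).toMonoidHom = P := by
      apply eq_of_le_of_card_ge
      · rintro _ ⟨x, hx, rfl⟩
        exact hc x hx
      · rw [card_map_of_injective (MulAut.conj n).injective, hk, hk2, h2, mul_comm]
    have htR : ∃ r ∈ R, n * r * n⁻¹ = t := by
      have := C.tP
      rw [← hmap] at this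
      obtain ⟨r, hr, e⟩ := this
      exact ⟨r, hr, e⟩
    obtain ⟨r, hr, er⟩ := htR
    have h5 : r * z = z * r := mem_centralizer_singleton_iff.1 (hR.le hr)
    have h6 : t * (n * z * n⁻¹) = (n * z * n⁻¹) * t := by
      rw [← er]
      calc n * r * n⁻¹ * (n * z * n⁻¹) = n * (r * z) * n⁻¹ := by group
        _ = n * (z * r) * n⁻¹ := by rw [h5]
        _ = _ := by group
    have h7 : t * (n * z * n⁻¹) * t⁻¹ = n * z * n⁻¹ := by rw [h6]; group
    have h8 : n * z * n⁻¹ = 1 := by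
      rcases F.ks n hn with h | h
      · have h9 := h z F.zU
        have h10 := C.w.sw.1 _ h9
        rw [h7] at h10
        exact C.w.inf _ h9 h10
      · have h9 := h z F.zU
        have h10 := C.w.sw.2 _ h9
        rw [h7] at h10
        exact C.w.inf _ h10 h9
    apply F.z1
    calc z = n⁻¹ * (n * z * n⁻¹) * n := by group
      _ = 1 := by rw [h8]; group

end Cfg

end Cfsg.Agent.HexOut
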