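import Cfsg.Agent.HexOut.FTwo
import Cfsg.Agent.HexStart.HexNoFix
import Cfsg.Agent.WreathFusion.HexPure

/-!
# The facts `NAb`, `HasB` and the four-group for the types `G₂(q)`, `³D₄(q)` (S1778, piece [I4])

* `nab`, `hasB`, `four`; `z_mem : y 4 1 ∈ ⁅U, U⁆`, `z_ne`, `z_sq`.
-/

set_option autoImplicit false
set_option linter.unusedSectionVars false

namespace Cfsg.Agent.HexOut

open Subgroup Cfsg.Agent.SplitTwo Cfsg.Agent.StdRank2.Hex Cfsg.Agent.StdRank2.Hex.HexTwo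
open Cfsg.Agent.WreathFusion.HexPure Cfsg.Agent.HexStart
open scoped commutatorElement

namespace IFacts

variable {E : Type*} [Field E] [Finite E] {σ : E ≃+* E} {G : Type*} [Group G] {y : ZMod 12 → E → G}
  (h : HexTwo σ y)

section

include h

/-- The centraliser of an involution of `A`. -/
theorem nab [Finite G] {s : E} (hs : s ≠ 0) (hs1 : s ≠ 1) (hsf : σ s = s) : NAb (AA σ y) := by
  intro v hv hv2 hv1
  obtain ⟨N, hN2, -, hNc, hN⟩ := comm_normal h hs hs1 hsf hv hv2 hv1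
  exact ⟨N, hN2, hNc, fun X hX hX2 hXv => commutator_le.2 fun p hp r hr => hN X hX2 hX hXv p hp r hr⟩

theorem z_ne : y 4 1 ≠ 1 := fun e => one_ne_zero (h.inj 4 1 (ok_one σ 4) e)

theorem z_sq : y 4 1 * y 4 1 = 1 := h.x_sq (ok_one σ 4)

theorem z_mem : y 4 1 ∈ ⁅UU σ y, UU σ y⁆ := by
  rw [← comm_x2_x6 h]
  exact commutator_mem_commutator (x_mem_gen (by rw [mem_arc]; decide) (ok_one σ 2))
    (x_mem_gen (by rw [mem_arc]; decide) (ok_one σ 6))

theorem y2_mem_comm {Q : Subgroup G} (h1 : y 1 1 ∈ Q) (h3 : y 3 1 ∈ Q) : y 2 1 ∈ ⁅Q, Q⁆ := by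
  have e := h.commS2 (k := 1) (by decide) 1 1
  have e1 : trc σ 1 1 = 1 := by
    unfold trc
    rw [mul_one, map_one, map_one]
    linear_combination h.two
  rw [e1, show (1 : ZMod 12) + 2 = 3 by decide, show (1 : ZMod 12) + 1 = 2 by decide] at e
  rw [← e]
  exact commutator_mem_commutator h1 h3

theorem y4_mem_comm {Q : Subgroup G} (h2 : y 2 1 ∈ Q) (h6 : y 6 1 ∈ Q) : y 4 1 ∈ ⁅Q, Q⁆ := by
  rw [← comm_x2_x6 h]
  exact commutator_mem_commutator h2 h6

theorem conj_y2 : nn y 6 * y 2 1 * (nn y 6)⁻¹ = y 4 1 := by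
  rw [h.refl 6 2 (ok_one σ 2)]
  congr 1

theorem conj_y2y4 : y 6 1 * y 2 1 * (y 6 1)⁻¹ = y 2 1 * y 4 1 := by
  have e := comm_x2_x6 h
  have c24 : y 2 1 * y 4 1 = y 4 1 * y 2 1 := by
    have := h.commL2 (k := 2) (by decide) (map_one σ) (map_one σ)
    rw [commutatorElement_eq_one_iff_mul_comm] at this
    exact this
  have c46 : y 4 1 * y 6 1 = y 6 1 * y 4 1 := by
    have := h.commL2 (k := 4) (by decide) (map_one σ) (map_one σ)
    rw [commutatorElement_eq_one_iff_mul_comm] at this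
    exact this
  rw [commutatorElement_def, h.x_inv (ok_one σ 2), h.x_inv (ok_one σ 6)] at e
  rw [h.x_inv (ok_one σ 6)]
  calc y 6 1 * y 2 1 * y 6 1 = y 2 1 * y 2 1 * (y 6 1 * y 2 1 * y 6 1) := by
        rw [h.x_sq (ok_one σ 2), one_mul]
    _ = y 2 1 * (y 2 1 * y 6 1 * y 2 1 * y 6 1) := by group
    _ = y 2 1 * y 4 1 := by rw [e]

theorem not_pow (k : ℕ) : (y 4 1 * y 10 1) ^ 2 ^ k ≠ 1 := by
  intro hn'
  have h46 : (4 : ZMod 12) + 6 = 10 := by decide
  have h106 : (10 : ZMod 12) + 6 = 4 := by decide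
  have e3 : (y 4 1 * y 10 1) ^ 3 = 1 := by
    have e4 : nn y 4 * nn y 10 = 1 := by
      have := h.nn_opp 4
      rw [h46] at this
      rw [this, h.nn_sq]
    unfold nn at e4
    rw [h46, h106] at e4
    rw [← e4, pow_succ, pow_two]
    group
  have e5 : y 4 1 * y 10 1 = 1 := by
    have h1 := orderOf_dvd_of_pow_eq_one hn'
    have h2 := orderOf_dvd_of_pow_eq_one e3
    exact orderOf_eq_one_iff.1 (Nat.eq_one_of_dvd_coprimes (Nat.Coprime.pow_right k (by decide)) h2 h1)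
  have e6 : y 4 1 = y 10 1 := by
    rw [eq_inv_of_mul_eq_one_left e5, h.x_inv (ok_one σ 10)]
  have e7 : y 4 1 = 1 := h.opp_one (x_mem_gen (by rw [mem_arc]; decide) (ok_one σ 4)) (by
    rw [e6]
    exact x_mem_gen (by rw [mem_arc]; decide) (ok_one σ 10))
  exact z_ne h e7

end

/-- pure elements centralise the `y k 1` -/
theorem comm_of_pure {g : G} {ρ : E ≃+* E} (hg : Pure σ y g ρ) (k : ZMod 12) : y k 1 * g = g * y k 1 := by
  have e := hg k 1 (ok_one σ k)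
  rw [map_one] at e
  calc y k 1 * g = g * y k 1 * g⁻¹ * g := by rw [e]
    _ = g * y k 1 := by group

variable {Y : Subgroup G} (hY : ∀ g ∈ Y, ∃ ρ : E ≃+* E, Pure σ y g ρ)

/-- the group generated by the `y k 1`, `k ∈ S` -/
def BB (y : ZMod 12 → E → G) (S : Set (ZMod 12)) : Subgroup G := closure {g | ∃ k ∈ S, g = y k 1}

omit [Finite E] in
theorem mem_BB {S : Set (ZMod 12)} {k : ZMod 12} (hk : k ∈ S) : y k 1 ∈ BB y S := subset_closure ⟨k, hk, rfl⟩

omit [Finite E] in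
theorem BB_le {S : Set (ZMod 12)} {K : Subgroup G} (hK : ∀ k ∈ S, y k 1 ∈ K) : BB y S ≤ K := by
  unfold BB
  rw [closure_le]
  rintro _ ⟨k, hk, rfl⟩
  exact hK k hk

include hY in
theorem BB_cn {S : Set (ZMod 12)} : ∀ q ∈ BB y S, Cn q Y := by
  intro q hq a ha
  have h1 : BB y S ≤ centralizer (Y : Set G) := by
    refine BB_le fun k _ => mem_centralizer_iff.2 fun a ha => ?_
    obtain ⟨ρ, hρ⟩ := hY a ha
    exact (comm_of_pure hρ k).symm
  exact (mem_centralizer_iff.1 (h1 hq) a ha).symm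

include h in
theorem BB_two {S : Set (ZMod 12)} (hS : S ⊆ arc 1 6) : IsPGroup 2 (BB y S) :=
  h.isPGroup_U.to_le (BB_le fun k hk => x_mem_gen (hS hk) (ok_one σ k))

include h hY in
/-- The subgroup `L₃(2)`. -/
theorem hasB : HasB (AA σ y) Y := by
  set S : Set (ZMod 12) := {k | k.val % 2 = 0} with hS
  have hgen : ∀ k : ZMod 12, k.val % 2 = 0 → y k 1 ∈ BB y S := fun k hk => mem_BB hk
  refine ⟨BB y S, BB_le fun k _ => x_mem_gen (Set.mem_univ k) (ok_one σ k), ?_, ?_, BB_cn hY, ?_, ?_⟩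
  · apply le_antisymm
    · exact commutator_le.2 fun p hp r hr => by
        rw [commutatorElement_def]
        exact mul_mem (mul_mem (mul_mem hp hr) (inv_mem hp)) (inv_mem hr)
    · refine BB_le fun k hk => ?_
      have par : ∀ k : ZMod 12, k.val % 2 = 0 → (k - 2).val % 2 = 0 ∧ (k + 2).val % 2 = 0 := by decide
      obtain ⟨p1, p2⟩ := par k hk
      have e := h.commL4 (k := k - 2) p1 (map_one σ) (map_one σ)
      rw [mul_one, show k - 2 + 4 = k + 2 by ring, show k - 2 + 2 = k by ring] at e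
      rw [← e]
      exact commutator_mem_commutator (hgen _ p1) (hgen _ p2)
  · conv_lhs => unfold BB
    rw [closure_le]
    rintro _ ⟨k, hk, rfl⟩
    exact subset_closure ⟨hgen k hk, 1, by rw [pow_one, pow_two, h.x_sq (ok_one σ k)]⟩
  · exact ⟨y 4 1, hgen 4 (by decide), z_sq h, z_ne h⟩
  · refine ⟨BB y {2, 6}, ?_, ?_, y 4 1, y4_mem_comm h (mem_BB (by simp)) (mem_BB (by simp)), nn y 4, ?_, ?_⟩
    · refine BB_le fun k hk => ?_
      rcases hk with rfl | hk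
      · exact hgen 2 (by decide)
      · rw [Set.mem_singleton_iff] at hk
        subst hk
        exact hgen 6 (by decide)
    · apply BB_two h
      rintro k (rfl | hk)
      · rw [mem_arc]; decide
      · rw [Set.mem_singleton_iff] at hk
        subst hk
        rw [mem_arc]; decide
    · unfold nn
      exact mul_mem (mul_mem (hgen 4 (by decide)) (hgen _ (by decide))) (hgen 4 (by decide))
    · intro k
      rw [h.refl 4 4 (ok_one σ 4), show (2 : ZMod 12) * 4 + 6 - 4 = 10 by decide]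
      exact not_pow h k

include h hY in
/-- The four-group of conjugates of `z = y 4 1`. -/
theorem four : ∃ Q ≤ AA σ y, IsPGroup 2 Q ∧ (∀ q ∈ Q, Cn q Y) ∧ ∃ a ∈ ⁅Q, Q⁆, ∃ b ∈ ⁅Q, Q⁆,
    (∃ k : G, k * a * k⁻¹ = y 4 1) ∧ (∃ k : G, k * b * k⁻¹ = y 4 1) ∧ (∃ k : G, k * (a * b) * k⁻¹ = y 4 1) := by
  have hm : ∀ k : ZMod 12, (k - 1).val < 6 → y k 1 ∈ BB y (arc 1 6) := fun k hk => mem_BB (by rw [mem_arc]; exact hk)
  refine ⟨BB y (arc 1 6), BB_le fun k _ => x_mem_gen (Set.mem_univ k) (ok_one σ k), BB_two h le_rfl, BB_cn hY,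
    y 2 1, y2_mem_comm h (hm 1 (by decide)) (hm 3 (by decide)), y 4 1, y4_mem_comm h (hm 2 (by decide))
      (hm 6 (by decide)), ⟨nn y 6, conj_y2 h⟩, ⟨1, by group⟩, nn y 6 * (y 6 1)⁻¹, ?_⟩
  rw [← conj_y2y4 h]
  calc nn y 6 * (y 6 1)⁻¹ * (y 6 1 * y 2 1 * (y 6 1)⁻¹) * (nn y 6 * (y 6 1)⁻¹)⁻¹
      = nn y 6 * y 2 1 * (nn y 6)⁻¹ := by group
    _ = y 4 1 := conj_y2 h

end IFacts

end Cfsg.Agent.HexOut
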