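import Cfsg.Agent.HexOut.IKs
import Cfsg.Agent.HexOut.IFacts

/-!
# The structure `Facts` of two commuting hexagonal systems
-/

set_option autoImplicit false
set_option linter.unusedSectionVars false

namespace Cfsg.Agent.HexOut

open Subgroup Cfsg.Agent.StdRank2.Hex Cfsg.Agent.StdRank2.Hex.HexTwo Cfsg.Agent.WreathFusion
open Cfsg.Agent.WreathFusion.HexPair Cfsg.Agent.WreathFusion.HexPure

namespace FactsOf

variable {E : Type*} [Field E] [Finite E] {σ : E ≃+* E} {G : Type*} [Group G] [Finite G]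
variable {x y1 y2 : ZMod 12 → E → G} {t : G} {P Y : Subgroup G} {c n₀ : ℕ}

/-- **The facts.** -/
theorem facts (h : HexTwo σ x) (p : IsPair σ y1 y2)
    (C : Cfg (AA σ x) (AA σ y1) (AA σ y2) t P (UU σ y1) (UU σ y2) Y c n₀)
    (hq : 2 < Nat.card {a : E // σ a = a}) {ω : E} (hω : σ ω = ω) (h0 : ω ≠ 0) (h1 : ω ≠ 1)
    (hp1 : ∀ g ∈ Y, ∃ ρ, Pure σ y1 g ρ) (hp2 : ∀ g ∈ Y, ∃ ρ, Pure σ y2 g ρ) :
    Facts (AA σ x) (AA σ y1) (AA σ y2) P (UU σ y1) Y (y1 4 1) where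
  nab := IFacts.nab h h0 h1 hω
  b₁ := IFacts.hasB p.h1 hp1
  b₂ := IFacts.hasB p.h2 hp2
  zU := IKs.zU p.h1
  z1 := IKs.z1 p.h1
  zz := IKs.zz p.h1
  zP := IKs.zP p C hp1
  ks := IKs.ks p C hq hp1 hp2
  four := IFacts.four p.h1 hp1

end FactsOf

end Cfsg.Agent.HexOut
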