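import Cfsg.Agent.HexOut.Close

/-!
# The end: `P ∩ E = U₁ U₂`
-/

set_option autoImplicit false
set_option linter.unusedSectionVars false

namespace Cfsg.Agent.HexOut

open Subgroup Cfsg.Agent.StdEven.Syl Cfsg.Agent.StdRank2.OutSplit
open scoped commutatorElement

variable {G : Type*} [Group G]

namespace Cfg

variable {A A₁ A₂ : Subgroup G} {t : G} {P U₁ U₂ Y : Subgroup G} {c n₀ : ℕ} {z : G}
variable [Finite G] (C : Cfg A A₁ A₂ t P U₁ U₂ Y c n₀)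

include C

/-- the commutative group `Y` -/
@[reducible] def cg : CommGroup Y :=
  { (inferInstance : Group Y) with mul_comm := fun a b => Subtype.ext (C.Yc a a.2 b b.2) }

theorem exists_dec (x : ↥(P ⊓ KK A₁ A₂)) : ∃ y : Y, ∃ u₁ ∈ U₁, ∃ u₂ ∈ U₂, (x : G) = u₁ * u₂ * y := by
  obtain ⟨u₁, h₁, u₂, h₂, y, hy, e⟩ := C.dec x (mem_inf.1 x.2).1 (mem_inf.1 x.2).2
  exact ⟨⟨y, hy⟩, u₁, h₁, u₂, h₂, e⟩

/-- the `Y`-part -/
noncomputable def yp (x : ↥(P ⊓ KK A₁ A₂)) : Y := (C.exists_dec x).choose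

theorem yp_spec (x : ↥(P ⊓ KK A₁ A₂)) : ∃ u₁ ∈ U₁, ∃ u₂ ∈ U₂, (x : G) = u₁ * u₂ * C.yp x :=
  (C.exists_dec x).choose_spec

theorem yp_eq {x : ↥(P ⊓ KK A₁ A₂)} {u₁ u₂ y : G} (h₁ : u₁ ∈ A₁) (h₂ : u₂ ∈ A₂) (hy : y ∈ Y)
    (e : (x : G) = u₁ * u₂ * y) : (C.yp x : G) = y := by
  obtain ⟨v₁, k₁, v₂, k₂, f⟩ := C.yp_spec x
  exact (C.dec_uniq (C.U1A k₁) h₁ (C.U2A k₂) h₂ (C.yp x).2 hy (f.symm.trans e)).2.2

/-- the `Y`-part is a homomorphism -/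
noncomputable def ypHom : ↥(P ⊓ KK A₁ A₂) →* Y where
  toFun := C.yp
  map_one' := Subtype.ext (C.yp_eq (one_mem _) (one_mem _) (one_mem _) (by simp))
  map_mul' := by
    intro a b
    obtain ⟨u₁, h₁, u₂, h₂, e⟩ := C.yp_spec a
    obtain ⟨v₁, k₁, v₂, k₂, f⟩ := C.yp_spec b
    apply Subtype.ext
    set y : G := (C.yp a : G) with hy
    set y' : G := (C.yp b : G) with hy'
    have hyY : y ∈ Y := (C.yp a).2
    have hyY' : y' ∈ Y := (C.yp b).2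
    have m1 := C.s₁.nB y hyY _ (C.U1A k₁)
    have m2 := C.s₂.nB y hyY _ (C.U2A k₂)
    refine C.yp_eq (x := a * b) (u₁ := u₁ * (y * v₁ * y⁻¹)) (u₂ := u₂ * (y * v₂ * y⁻¹)) (mul_mem (C.U1A h₁) m1)
      (mul_mem (C.U2A h₂) m2) (mul_mem hyY hyY') ?_
    have c1 := C.comm m1 (C.U2A h₂)
    rw [Subgroup.coe_mul, e, f]
    show u₁ * u₂ * y * (v₁ * v₂ * y') = u₁ * (y * v₁ * y⁻¹) * (u₂ * (y * v₂ * y⁻¹)) * (y * y')
    calc u₁ * u₂ * y * (v₁ * v₂ * y') = u₁ * (u₂ * (y * v₁ * y⁻¹)) * (y * v₂ * y⁻¹) * (y * y') := by group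
      _ = u₁ * ((y * v₁ * y⁻¹) * u₂) * (y * v₂ * y⁻¹) * (y * y') := by rw [c1]
      _ = _ := by group

theorem ypHom_eq_one {x : G} (hx : x ∈ P ⊓ KK A₁ A₂) : C.ypHom ⟨x, hx⟩ = 1 ↔ x ∈ U₁ ⊔ U₂ := by
  constructor
  · intro h
    obtain ⟨v₁, k₁, v₂, k₂, f⟩ := C.yp_spec ⟨x, hx⟩
    have h1 : (C.yp ⟨x, hx⟩ : G) = 1 := congrArg Subtype.val h
    rw [h1, mul_one] at f
    exact C.mem_S.2 ⟨v₁, k₁, v₂, k₂, f⟩
  · intro h
    obtain ⟨v₁, k₁, v₂, k₂, f⟩ := C.mem_S.1 h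
    apply Subtype.ext
    exact C.yp_eq (x := ⟨x, hx⟩) (y := 1) (C.U1A k₁) (C.U2A k₂) (one_mem _) (by rw [mul_one]; exact f)

theorem S_le : U₁ ⊔ U₂ ≤ P ⊓ KK A₁ A₂ := by
  rw [← C.inf_D]
  exact inf_le_inf_left _ C.w.D_le_KK

theorem hidx : ∀ a ∈ P, ∀ b ∈ P, a ∉ P ⊓ KK A₁ A₂ → b ∉ P ⊓ KK A₁ A₂ → a * b ∈ P ⊓ KK A₁ A₂ := by
  intro a ha b hb ha' hb'
  have h1 := (C.w.KK_or (C.syl.le ha)).resolve_left (fun h => ha' (mem_inf.2 ⟨ha, h⟩))
  have h2 := (C.w.KK_or (C.syl.le hb)).resolve_left (fun h => hb' (mem_inf.2 ⟨hb, h⟩))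
  exact mem_inf.2 ⟨mul_mem ha hb, by rw [mem_KK]; exact swaps_mul_swaps h1 h2⟩

theorem perf₂ : A₂ ≤ ⁅A₂, A₂⁆ := C.symm.w.perf

omit C [Finite G] in
theorem comm_le {E : Subgroup G} [E.Normal] (hGE : ∀ g : G, g ∈ E ∨ t * g ∈ E) : ⁅(⊤ : Subgroup G), (⊤ : Subgroup G)⁆ ≤ E := by
  -- `G ⧸ E` is commutative
  rw [commutator_le]
  intro a _ b _
  have hn : ∀ {x : G}, x ∈ E → ∀ g : G, g * x * g⁻¹ ∈ E := fun hx g => Normal.conj_mem inferInstance _ hx g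
  by_cases ha : a ∈ E
  · have : ⁅a, b⁆ = a * (b * a⁻¹ * b⁻¹) := by rw [commutatorElement_def]; group
    rw [this]
    exact mul_mem ha (hn (inv_mem ha) b)
  by_cases hb : b ∈ E
  · have : ⁅a, b⁆ = (a * b * a⁻¹) * b⁻¹ := by rw [commutatorElement_def]
    rw [this]
    exact mul_mem (hn hb a) (inv_mem hb)
  -- `a = t⁻¹ x`, `b = t⁻¹ y`
  have h1 := (hGE a).resolve_left ha
  have h2 := (hGE b).resolve_left hb
  -- `a⁻¹ b ∈ E`
  have h3 : a⁻¹ * b ∈ E := by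
    have : a⁻¹ * b = (t * a)⁻¹ * (t * b) := by group
    rw [this]; exact mul_mem (inv_mem h1) h2
  -- direct computation: `⁅a, b⁆ = a b a⁻¹ b⁻¹ = a (b a⁻¹) b⁻¹`, with `a⁻¹ b = e`: `b = a e`
  set e := a⁻¹ * b with he
  have hb' : b = a * e := by rw [he]; group
  have h4 : ⁅a, b⁆ = (a * (a * e * a⁻¹) * a⁻¹) * (a * e * a⁻¹)⁻¹ := by
    rw [commutatorElement_def, hb']; group
  rw [h4]
  exact mul_mem (hn (hn h3 a) a) (inv_mem (hn h3 a))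

section

variable {E : Subgroup G} [E.Normal] (hGE : ∀ g : G, g ∈ E ∨ t * g ∈ E)
include hGE

theorem A1_le : A₁ ≤ E := C.w.perf.trans ((commutator_mono le_top le_top).trans (comm_le hGE))

theorem A2_le : A₂ ≤ E := C.perf₂.trans ((commutator_mono le_top le_top).trans (comm_le hGE))

theorem D_le : A₁ ⊔ A₂ ≤ E := sup_le (C.A1_le hGE) (C.A2_le hGE)

/-- **`NoSwap`** -/
theorem hNS (F : Facts A A₁ A₂ P U₁ Y z) : ∀ l ∈ P ⊓ KK A₁ A₂, l ∉ E → ∃ l' : G, l' ∉ E ∧ NoSwap P (P ⊓ KK A₁ A₂) l' := by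
  intro l hl hlE
  obtain ⟨u₁, h₁, u₂, h₂, y, hy, e⟩ := C.dec l (mem_inf.1 hl).1 (mem_inf.1 hl).2
  have hyE : y ∉ E := by
    intro h
    apply hlE
    rw [e]
    exact mul_mem (mul_mem (C.A1_le hGE (C.U1A h₁)) (C.A2_le hGE (C.U2A h₂))) h
  refine ⟨y, hyE, ?_⟩
  obtain ⟨Q, hQA, hQ, hcn, a, ha, b, hb, ⟨k₁, e₁⟩, ⟨k₂, e₂⟩, k₃, e₃⟩ := F.four
  have pz := C.pure_z F
  exact noSwap_of_four C.hidx hQ (fun q hq => hcn q hq y hy) a b ha hb (pure_conj pz e₁) (pure_conj pz e₂)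
    (pure_conj pz e₃)

end

/-- the order of a 2-subgroup of `N(A₁) ∩ N(A₂)` centralising an involution of `Y` outer on both sides -/
theorem card_le_of_outer {y : G} (hy : y ∈ Y) (hyy : y * y = 1) (h₁ : ¬ Cn y A₁) (h₂ : ¬ Cn y A₂) {R : Subgroup G}
    (hR : IsPGroup 2 R) (hRK : R ≤ KK A₁ A₂) (hRy : ∀ r ∈ R, r * y = y * r) :
    Nat.card R ≤ (n₀ * n₀) * Nat.card Y := by
  refine (C.card_le_of_KK hR hRK).trans (Nat.mul_le_mul_right _ ?_)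
  set Z := R ⊓ (A₁ ⊔ A₂) with hZ
  have hZ2 : IsPGroup 2 Z := hR.to_le inf_le_left
  -- the components commute with `y`
  have hcomp : ∀ {a b : G}, a ∈ A₁ → b ∈ A₂ → a * b ∈ Z → a * y = y * a ∧ b * y = y * b := by
    intro a b ha hb hab
    have h3 := hRy _ (mem_inf.1 hab).1
    have h4 : a * b = (y * a * y⁻¹) * (y * b * y⁻¹) := by
      calc a * b = (a * b) * y * y⁻¹ := by group
        _ = y * (a * b) * y⁻¹ := by rw [h3]
        _ = _ := by group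
    obtain ⟨e1, e2⟩ := C.w.uniq ha (C.s₁.nB y hy a ha) hb (C.s₂.nB y hy b hb) h4
    constructor
    · calc a * y = (y * a * y⁻¹) * y := by rw [← e1]
        _ = y * a := by group
    · calc b * y = (y * b * y⁻¹) * y := by rw [← e2]
        _ = y * b := by group
  -- projections
  let W₁ : Subgroup G :=
    { carrier := {a | a ∈ A₁ ∧ ∃ b ∈ A₂, a * b ∈ Z}
      one_mem' := ⟨one_mem _, 1, one_mem _, by simp⟩
      mul_mem' := by
        rintro a a' ⟨ha, b, hb, hab⟩ ⟨ha', b', hb', hab'⟩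
        refine ⟨mul_mem ha ha', b * b', mul_mem hb hb', ?_⟩
        have : a * a' * (b * b') = (a * b) * (a' * b') := by
          calc a * a' * (b * b') = a * (a' * b) * b' := by group
            _ = a * (b * a') * b' := by rw [C.comm ha' hb]
            _ = _ := by group
        rw [this]
        exact mul_mem hab hab'
      inv_mem' := by
        rintro a ⟨ha, b, hb, hab⟩
        refine ⟨inv_mem ha, b⁻¹, inv_mem hb, ?_⟩
        have : a⁻¹ * b⁻¹ = (a * b)⁻¹ := by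
          rw [C.comm ha hb, mul_inv_rev]
        rw [this]
        exact inv_mem hab }
  let W₂ : Subgroup G :=
    { carrier := {b | b ∈ A₂ ∧ ∃ a ∈ A₁, a * b ∈ Z}
      one_mem' := ⟨one_mem _, 1, one_mem _, by simp⟩
      mul_mem' := by
        rintro b b' ⟨hb, a, ha, hab⟩ ⟨hb', a', ha', hab'⟩
        refine ⟨mul_mem hb hb', a * a', mul_mem ha ha', ?_⟩
        have : a * a' * (b * b') = (a * b) * (a' * b') := by
          calc a * a' * (b * b') = a * (a' * b) * b' := by group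
            _ = a * (b * a') * b' := by rw [C.comm ha' hb]
            _ = _ := by group
        rw [this]
        exact mul_mem hab hab'
      inv_mem' := by
        rintro b ⟨hb, a, ha, hab⟩
        refine ⟨inv_mem hb, a⁻¹, inv_mem ha, ?_⟩
        have : a⁻¹ * b⁻¹ = (a * b)⁻¹ := by
          rw [C.comm ha hb, mul_inv_rev]
        rw [this]
        exact inv_mem hab }
  have hpow : ∀ {a b : G}, a ∈ A₁ → b ∈ A₂ → a * b ∈ Z → ∃ k : ℕ, a ^ 2 ^ k = 1 ∧ b ^ 2 ^ k = 1 := by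
    intro a b ha hb hab
    obtain ⟨k, hk⟩ := hZ2 ⟨_, hab⟩
    have hk' : (a * b) ^ 2 ^ k = 1 := congrArg Subtype.val hk
    have hc : Commute a b := C.comm ha hb
    rw [hc.mul_pow] at hk'
    obtain ⟨e1, e2⟩ := C.w.uniq (pow_mem ha (2 ^ k)) (one_mem _) (pow_mem hb (2 ^ k)) (one_mem _)
      (by rw [hk', one_mul])
    exact ⟨k, e1, e2⟩
  have k1 : Nat.card W₁ ≤ n₀ := by
    apply C.s₁.card_le_of_outer hy hyy h₁ (X := W₁)
    · rintro ⟨a, ha, b, hb, hab⟩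
      obtain ⟨k, hk, -⟩ := hpow ha hb hab
      exact ⟨k, Subtype.ext hk⟩
    · exact fun a ha => ha.1
    · rintro a ⟨ha, b, hb, hab⟩
      exact (hcomp ha hb hab).1
  have k2 : Nat.card W₂ ≤ n₀ := by
    apply C.s₂.card_le_of_outer hy hyy h₂ (X := W₂)
    · rintro ⟨b, hb, a, ha, hab⟩
      obtain ⟨k, -, hk⟩ := hpow ha hb hab
      exact ⟨k, Subtype.ext hk⟩
    · exact fun a ha => ha.1
    · rintro b ⟨hb, a, ha, hab⟩
      exact (hcomp ha hb hab).2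
  refine le_trans ?_ (Nat.mul_le_mul k1 k2)
  rw [← Nat.card_prod]
  have hex : ∀ x : Z, ∃ p : W₁ × W₂, (x : G) = p.1 * p.2 := by
    intro x
    obtain ⟨a, ha, b, hb, e⟩ := C.w.mem_D.1 (mem_inf.1 x.2).2
    have hab : a * b ∈ Z := by rw [← e]; exact x.2
    exact ⟨⟨⟨a, ha, b, hb, hab⟩, ⟨b, hb, a, ha, hab⟩⟩, e⟩
  choose f hf using hex
  refine Nat.card_le_card_of_injective f ?_
  intro x x' h
  apply Subtype.ext
  rw [hf x, hf x', h]

/-- **The end.** -/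
theorem inf_E (F : Facts A A₁ A₂ P U₁ Y z) {E : Subgroup G} [E.Normal] (hE : commutator E = ⊤)
    (hGE : ∀ g : G, g ∈ E ∨ t * g ∈ E) : P ⊓ E = U₁ ⊔ U₂ := by
  obtain ⟨P', hP'⟩ := (C.syl_top F).exists_sylow
  subst hP'
  set P : Subgroup G := (P' : Subgroup G) with hPdef
  let _ := C.cg
  have ht0 : t ∉ P ⊓ KK A₁ A₂ := fun h => C.w.t_not_KK (mem_inf.1 h).2
  refine inf_eq' (P := P') (S0 := P ⊓ KK A₁ A₂) (N := U₁ ⊔ U₂) (T := ⊥) inf_le_left C.hidx C.w.tt C.tP ht0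
    IsPGroup.of_bot (by
      intro r hr
      rw [mem_bot] at hr
      rw [hr]; simp) ?_ hE hGE (C.hNS hGE F) C.ypHom (fun x hx => C.ypHom_eq_one hx) C.S_le ?_
  · intro g _ _ hg
    apply C.conj_not_KK F g⁻¹
    rw [inv_inv]
    exact (mem_inf.1 hg).2
  rintro ⟨x, hx, hxN⟩ hSE htE
  obtain ⟨u₁, h₁, u₂, h₂, y', hy', ex⟩ := C.dec x (mem_inf.1 hx).1 (mem_inf.1 hx).2
  have hy'1 : y' ≠ 1 := by
    rintro rfl
    apply hxN
    rw [ex, mul_one]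
    exact C.mem_S.2 ⟨u₁, h₁, u₂, h₂, rfl⟩
  obtain ⟨y, hy, hyy, hy1, hy2⟩ := C.exists_outer hy' hy'1
  have hyi : y⁻¹ = y := inv_eq_of_mul_eq_one_right hyy
  have hyS : y ∈ P ⊓ KK A₁ A₂ := mem_inf.2 ⟨C.YP hy, C.YK hy⟩
  have hty : t * y = y * t := by
    have := C.comm_t hy hyy hy1 hy2
    calc t * y = (t * y * t⁻¹) * t := by group
      _ = y * t := by rw [this]
  refine ⟨y, hyS, hyy, ?_, ?_⟩
  · intro h
    have h3 := C.Y_inf_D hy (C.inf_D ▸ h : y ∈ P ⊓ (A₁ ⊔ A₂)).2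
    apply hy1
    rw [h3]
    intro a _
    rw [one_mul, mul_one]
  -- the Sylow subgroup of `C(y)`
  have htMC : zpowers t ≤ MM A₁ A₂ ⊓ centralizer {y} := zpowers_le.2 (mem_inf.2 ⟨C.w.t_MM, by
    rw [mem_centralizer_singleton_iff]; exact hty⟩)
  obtain ⟨X, hX, htX⟩ := exists_isSyl (isPGroup_zpowers_of_sq C.w.tt) htMC
  have htX' : t ∈ X := htX (mem_zpowers t)
  have hXC : IsSyl X (centralizer {y}) := isSyl_of_normalizer hX (by
    intro n _ hn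
    exact C.mem_of_conj F (mem_inf.1 (hX.le (conj_mem_of_mem_normalizer hn htX'))).1)
  -- the intersection with `E`
  have hR2 : IsPGroup 2 (X ⊓ KK A₁ A₂ : Subgroup G) := hX.two.to_le inf_le_left
  have hKKE : ∀ {R : Subgroup G}, IsPGroup 2 R → R ≤ KK A₁ A₂ → R ≤ E := by
    intro R hR hRK r hr
    obtain ⟨n, -, hn⟩ := C.P0_syl.exists_conj hR hRK
    have h3 := hSE (hn r hr)
    have : r = n⁻¹ * (n * r * n⁻¹) * n⁻¹⁻¹ := by group
    rw [this]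
    exact Normal.conj_mem inferInstance _ h3 n⁻¹
  have hRE : X ⊓ KK A₁ A₂ ≤ E := hKKE hR2 inf_le_right
  have hXE : X ⊓ E = X ⊓ KK A₁ A₂ := by
    apply le_antisymm
    · intro g hg
      obtain ⟨hgX, hgE⟩ := mem_inf.1 hg
      refine mem_inf.2 ⟨hgX, ?_⟩
      by_contra hgK
      have h3 := (C.w.KK_or (mem_inf.1 (hX.le hgX)).1).resolve_left hgK
      have h4 : g * t ∈ X ⊓ KK A₁ A₂ := mem_inf.2 ⟨mul_mem hgX htX', by
        rw [mem_KK]; exact swaps_mul_swaps h3 C.w.sw⟩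
      exact htE ((mul_mem_cancel_left hgE).1 (hRE h4))
    · exact le_inf inf_le_left hRE
  have hRy : ∀ r ∈ X ⊓ KK A₁ A₂, r * y = y * r := fun r hr =>
    mem_centralizer_singleton_iff.1 (mem_inf.1 (hX.le (mem_inf.1 hr).1)).2
  have hcard := C.card_le_of_outer hy hyy hy1 hy2 hR2 inf_le_right hRy
  -- Sylow in `C_E(y)`
  have hsylE : IsSyl (X ⊓ KK A₁ A₂) (centralizer {y} ⊓ E) := by
    have h3 := hXC.inf_normal (N' := centralizer {y} ⊓ E) inf_le_left (by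
      intro n hn
      apply mem_normalizer_of_conj_le
      intro e he
      exact mem_inf.2 ⟨mul_mem (mul_mem hn (mem_inf.1 he).1) (inv_mem hn),
        Normal.conj_mem inferInstance _ (mem_inf.1 he).2 n⟩)
    have h4 : X ⊓ (centralizer {y} ⊓ E) = X ⊓ KK A₁ A₂ := by
      rw [← hXE]
      apply le_antisymm
      · exact le_inf inf_le_left (inf_le_right.trans inf_le_right)
      · exact le_inf inf_le_left (le_inf (inf_le_left.trans hXC.le) inf_le_right)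
    rw [h4] at h3
    exact h3
  refine ⟨X ⊓ KK A₁ A₂, hR2, hRE, hRy, ?_⟩
  intro g hg _ hv
  obtain ⟨v₁, k₁, v₂, k₂, y'', hy'', ev⟩ := C.dec _ (mem_inf.1 hv).1 (mem_inf.1 hv).2
  have hvv : (v₁ * v₂ * y'') * (v₁ * v₂ * y'') = 1 := by
    rw [← ev]
    calc g⁻¹ * y * g * (g⁻¹ * y * g) = g⁻¹ * (y * y) * g := by group
      _ = 1 := by rw [hyy]; group
  obtain ⟨hyy'', -, -⟩ := C.sq_comp k₁ k₂ hy'' hvv
  by_cases hin : Cn y'' A₁ ∨ Cn y'' A₂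
  · exfalso
    obtain ⟨d, hd, e₁, he₁, e₂, he₂, estd, q1, q2, q3, q4⟩ := C.std k₁ k₂ hy'' hvv
    have h3 := C.card_cent_lt he₁ he₂ hy'' hyy'' q1 q2 q3 q4 hin
    have hdE : d ∈ E := C.D_le hGE hd
    -- conjugate into `C_E(y)`
    set Q := (P ⊓ KK A₁ A₂) ⊓ centralizer {e₁ * e₂ * y''} with hQ
    have hQ2 : IsPGroup 2 Q := C.P0_syl.two.to_le inf_le_left
    have hconj : ∀ q ∈ Q, (g * d⁻¹) * q * (g * d⁻¹)⁻¹ ∈ centralizer {y} ⊓ E := by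
      intro q hq
      obtain ⟨hq1, hq2⟩ := mem_inf.1 hq
      rw [mem_centralizer_singleton_iff] at hq2
      refine mem_inf.2 ⟨?_, ?_⟩
      · rw [mem_centralizer_singleton_iff]
        have ey : y = (g * d⁻¹) * (e₁ * e₂ * y'') * (g * d⁻¹)⁻¹ := by
          rw [← estd, ← ev]; group
        calc (g * d⁻¹) * q * (g * d⁻¹)⁻¹ * y
            = (g * d⁻¹) * q * (g * d⁻¹)⁻¹ * ((g * d⁻¹) * (e₁ * e₂ * y'') * (g * d⁻¹)⁻¹) := by rw [← ey]
          _ = (g * d⁻¹) * (q * (e₁ * e₂ * y'')) * (g * d⁻¹)⁻¹ := by group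
          _ = (g * d⁻¹) * ((e₁ * e₂ * y'') * q) * (g * d⁻¹)⁻¹ := by rw [hq2]
          _ = ((g * d⁻¹) * (e₁ * e₂ * y'') * (g * d⁻¹)⁻¹) * ((g * d⁻¹) * q * (g * d⁻¹)⁻¹) := by group
          _ = y * ((g * d⁻¹) * q * (g * d⁻¹)⁻¹) := by rw [← ey]
      · exact Normal.conj_mem inferInstance _ (hSE hq1) _
    have h4 : Nat.card (Q.map (MulAut.conj (g * d⁻¹)).toMonoidHom) ≤ Nat.card ↥(X ⊓ KK A₁ A₂) := by
      apply hsylE.card_le (isPGroup_map hQ2 _)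
      rintro _ ⟨q, hq, rfl⟩
      exact hconj q hq
    have h5 : Nat.card (Q.map (MulAut.conj (g * d⁻¹)).toMonoidHom) = Nat.card Q :=
      (Nat.card_congr (Q.equivMapOfInjective (MulAut.conj (g * d⁻¹)).toMonoidHom
        (MulAut.conj (g * d⁻¹)).injective).toEquiv).symm
    rw [h5] at h4
    have h6 : 2 * (n₀ * n₀) * Nat.card Y < n₀ * n₀ * Nat.card Y := lt_of_lt_of_le h3 (h4.trans hcard)
    nlinarith
  · push Not at hin
    have h3 := C.eq_of_outer hy hyy hy1 hy2 hy'' hyy'' hin.1 hin.2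
    rw [ev, h3]
    have h4 : y⁻¹ * (v₁ * v₂ * y) = (y * v₁ * y⁻¹) * (y * v₂ * y⁻¹) := by
      calc y⁻¹ * (v₁ * v₂ * y) = y * (v₁ * v₂) * y⁻¹ := by rw [hyi]; group
        _ = _ := by group
    rw [h4]
    exact C.mem_S.2 ⟨_, C.s₁.nU y hy v₁ k₁, _, C.s₂.nU y hy v₂ k₂, rfl⟩

/-- `t ∉ E` -/
theorem t_not_mem (F : Facts A A₁ A₂ P U₁ Y z) {E : Subgroup G} [E.Normal] (hE : commutator E = ⊤)
    (hGE : ∀ g : G, g ∈ E ∨ t * g ∈ E) : t ∉ E := by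
  intro h
  have h1 : t ∈ P ⊓ E := mem_inf.2 ⟨C.tP, h⟩
  rw [C.inf_E F hE hGE] at h1
  exact C.w.t_not_KK (mem_inf.1 (C.S_le h1)).2

/-- `U₁ U₂` is a Sylow 2-subgroup of `E` -/
theorem isSyl_E (F : Facts A A₁ A₂ P U₁ Y z) {E : Subgroup G} [E.Normal] (hE : commutator E = ⊤)
    (hGE : ∀ g : G, g ∈ E ∨ t * g ∈ E) : IsSyl (U₁ ⊔ U₂) E := by
  have h1 := (C.syl_top F).inf_normal (N' := E) le_top (by
    intro n _
    apply mem_normalizer_of_conj_le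
    intro e he
    exact Normal.conj_mem inferInstance _ he n)
  rw [C.inf_E F hE hGE] at h1
  exact h1

end Cfg

end Cfsg.Agent.HexOut
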