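import Cfsg.Agent.StdRank2.HexAdapt
import Cfsg.Agent.WreathFusion.HexPure

/-!
# [I2]: adapted coordinates for a 2-group normalising `A` (wrapper of `HexAdapt.adapted`)
-/

set_option autoImplicit false
set_option linter.unusedSectionVars false

namespace Cfsg.Agent.HexOut

open Cfsg.Agent.SplitTwo Cfsg.Agent.StdRank2.Hex Cfsg.Agent.StdRank2.Hex.HexTwo

variable {E : Type*} [Field E] {σ : E ≃+* E} {G : Type*} [Group G] {y : ZMod 12 → E → G}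

theorem gen_cj_eq [Finite G] {s : G} {S : Set (ZMod 12)} (hs : ∀ v ∈ gen σ y S, s * v * s⁻¹ ∈ gen σ y S) :
    gen σ (cj s y) S = gen σ y S := by
  have e : gen σ (cj s y) S = (gen σ y S).map (MulAut.conj s).toMonoidHom :=
    map_gen (x := y) (y := cj s y) (MulAut.conj s).toMonoidHom (fun _ _ _ => rfl) S
  refine Subgroup.eq_of_le_of_card_ge (gen_le fun _ hk _ ha => hs _ (x_mem_gen hk ha)) ?_
  rw [e, Subgroup.card_map_of_injective (MulAut.conj s).injective]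

/-- **[I2]** -/
theorem exists_adapted [Finite E] [Finite G] (h : HexTwo σ y) {ω : E} (hω : σ ω = ω) (h0 : ω ≠ 0) (h1 : ω ≠ 1)
    {T : Subgroup G} (hT : IsPGroup 2 T) (hTn : T ≤ Subgroup.normalizer (AA σ y : Set G))
    (hTA : T ⊓ AA σ y = UU σ y) :
    ∃ g ∈ AA σ y, (∀ S : Set (ZMod 12), ∀ v ∈ gen σ y S, g * v * g⁻¹ ∈ gen σ y S) ∧
      HexTwo σ (fun k a => g * y k a * g⁻¹) ∧
      (∀ S : Set (ZMod 12), gen σ (fun k a => g * y k a * g⁻¹) S = gen σ y S) ∧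
      ∀ f ∈ T, ∃ u ∈ UU σ y, ∃ ρ : E ≃+* E, (∃ k, ρ ^ 2 ^ k = 1) ∧
        Cfsg.Agent.WreathFusion.HexPure.Pure σ (fun k a => g * y k a * g⁻¹) (u * f) ρ := by
  have hN : NotTwo σ := Or.inl ⟨ω, hω, fun e => h1 (by
    rw [pow_two] at e
    have : ω * ω = ω * 1 := by rw [e, mul_one]
    exact mul_left_cancel₀ h0 this)⟩
  have hAn : ∀ f ∈ T, ∀ v ∈ AA σ y, f * v * f⁻¹ ∈ AA σ y := fun f hf v hv =>
    (Subgroup.mem_normalizer_iff.mp (hTn hf) v).mp hv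
  have hUn : ∀ f ∈ T, ∀ v ∈ UU σ y, f * v * f⁻¹ ∈ UU σ y := by
    intro f hf v hv
    rw [← hTA] at hv ⊢
    exact Subgroup.mem_inf.mpr ⟨mul_mem (mul_mem hf hv.1) (inv_mem hf), hAn f hf v hv.2⟩
  obtain ⟨s, hs, hsT⟩ := adapted h hN hT hAn hUn
  exact ⟨s, h.H_le_AA hs, fun S v hv => h.H_conj_gen hs S hv, h.conj s,
    fun S => gen_cj_eq fun v hv => h.H_conj_gen hs S hv, hsT⟩

end Cfsg.Agent.HexOut
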