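import Cfsg.Agent.HexOut.Cfg
import Cfsg.Agent.HexOut.IAdapt
import Cfsg.Agent.WreathFusion.HexPair
import Cfsg.Agent.HexToX.Frame

/-!
# The configuration `Cfg` from two commuting hexagonal systems swapped by `t`
-/

set_option autoImplicit false
set_option linter.unusedSectionVars false

namespace Cfsg.Agent.HexOut

open Subgroup Cfsg.Agent.StdEven.Syl Cfsg.Agent.SplitTwo
open Cfsg.Agent.StdRank2.Hex hiding Pure
open Cfsg.Agent.StdRank2.Hex.HexTwo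
open Cfsg.Agent.WreathFusion.HexPair Cfsg.Agent.WreathFusion.HexPure
open scoped commutatorElement

variable {E : Type*} [Field E] {σ : E ≃+* E} {G : Type*} [Group G]

/-- conjugating a system whose groups are interchanged -/
theorem gen_conj_eq {y y' : ZMod 12 → E → G} {t : G} (h : ∀ k a, Ok σ k a → t * y k a * t⁻¹ = y' k a)
    (S : Set (ZMod 12)) : gen σ y' S = (gen σ y S).map (MulAut.conj t).toMonoidHom :=
  map_gen (MulAut.conj t).toMonoidHom (fun k a ha => (h k a ha).symm) S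

/-- being pure is transported by conjugation -/
theorem pure_conj {y y' : ZMod 12 → E → G} {t : G} (h : ∀ k a, Ok σ k a → t * y k a * t⁻¹ = y' k a) [Finite E]
    {f : G} {ρ : E ≃+* E} (hf : Pure σ y f ρ) : Pure σ y' (t * f * t⁻¹) ρ := fun k a ha => by
  rw [← h k a ha, ← h k _ (WreathFusion.HexPure.ok_aut ha), ← hf k a ha]
  group

/-- **[I1b]** -/
theorem exists_cfg [Finite E] [Finite G] {z1 z2 : ZMod 12 → E → G} (p : IsPair σ z1 z2) {A : Subgroup G} {t : G}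
    (w : Wr A (AA σ z1) (AA σ z2) t) (hsw : ∀ k a, Ok σ k a → t * z1 k a * t⁻¹ = z2 k a)
    (cen : ∀ x, (∀ a ∈ A, x * a = a * x) → x * t = t * x → (∃ k : ℕ, x ^ 2 ^ k = 1) → x = 1 ∨ x = t)
    {ω : E} (hω : σ ω = ω) (h0 : ω ≠ 0) (h1 : ω ≠ 1) {c n₀ : ℕ}
    (hside : ∀ {y : ZMod 12 → E → G} (_ : HexTwo σ y) {Y : Subgroup G}, (∀ g ∈ Y, ∃ ρ : E ≃+* E, Pure σ y g ρ) →
      n₀ * n₀ = Nat.card (UU σ y) → Side (AA σ y) (UU σ y) Y c n₀) (hn : n₀ * n₀ = Nat.card (UU σ z1)) :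
    ∃ y1 y2 : ZMod 12 → E → G, IsPair σ y1 y2 ∧ (∀ k a, t * y1 k a * t⁻¹ = y2 k a) ∧
      (∀ S, gen σ y1 S = gen σ z1 S) ∧ (∀ S, gen σ y2 S = gen σ z2 S) ∧
      ∃ P Y : Subgroup G, (∀ g ∈ Y, (∃ ρ : E ≃+* E, Pure σ y1 g ρ) ∧ ∃ ρ : E ≃+* E, Pure σ y2 g ρ) ∧
        Cfg A (AA σ y1) (AA σ y2) t P (UU σ y1) (UU σ y2) Y c n₀ := by
  have ht2 : ∀ a : G, t * (t * a * t⁻¹) * t⁻¹ = a := w.tts
  have hti := w.ti
  -- the 2-group `U₁ U₂ ⟨t⟩`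
  have hU1 : IsPGroup 2 (UU σ z1) := p.h1.isPGroup_U
  have hU2 : IsPGroup 2 (UU σ z2) := p.h2.isPGroup_U
  have hU1A : UU σ z1 ≤ AA σ z1 := gen_le_AA _
  have hU2A : UU σ z2 ≤ AA σ z2 := gen_le_AA _
  have hUt : ∀ u ∈ UU σ z1, t * u * t⁻¹ ∈ UU σ z2 := by
    intro u hu
    have h2 := gen_conj_eq hsw (arc 1 6)
    rw [UU, h2]
    exact ⟨u, hu, rfl⟩
  have hUt' : ∀ u ∈ UU σ z2, t * u * t⁻¹ ∈ UU σ z1 := by
    intro u hu
    have h2 := gen_conj_eq hsw (arc 1 6)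
    rw [UU, h2] at hu
    obtain ⟨v, hv, rfl⟩ := hu
    have : t * (t * v * t⁻¹) * t⁻¹ ∈ UU σ z1 := by rw [ht2]; exact hv
    exact this
  have hU12 : IsPGroup 2 (UU σ z1 ⊔ UU σ z2 : Subgroup G) := by
    refine hU1.to_sup_of_normal_left' hU2 fun v hv => ?_
    apply mem_normalizer_of_conj_le
    intro u hu
    have : v * u * v⁻¹ = u := by rw [← w.comm u (hU1A hu) v (hU2A hv)]; group
    rw [this]; exact hu
  have htn : zpowers t ≤ normalizer ((UU σ z1 ⊔ UU σ z2 : Subgroup G) : Set G) := by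
    rw [zpowers_le]
    apply mem_normalizer_of_conj_le
    have : UU σ z1 ⊔ UU σ z2 ≤ (UU σ z1 ⊔ UU σ z2).comap (MulAut.conj t).toMonoidHom :=
      sup_le (fun u hu => le_sup_right (a := UU σ z1) (hUt u hu)) (fun u hu => le_sup_left (b := UU σ z2) (hUt' u hu))
    exact fun u hu => this hu
  have hR : IsPGroup 2 ((UU σ z1 ⊔ UU σ z2) ⊔ zpowers t : Subgroup G) :=
    hU12.to_sup_of_normal_left' (isPGroup_zpowers_of_sq w.tt) htn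
  have hDM : AA σ z1 ⊔ AA σ z2 ≤ MM (AA σ z1) (AA σ z2) := w.D_le_KK.trans KK_le_MM
  obtain ⟨P, hP, hRP⟩ := exists_isSyl hR (N := MM (AA σ z1) (AA σ z2))
    (sup_le ((sup_le (hU1A.trans le_sup_left) (hU2A.trans le_sup_right)).trans hDM) (zpowers_le.2 w.t_MM))
  have htP : t ∈ P := hRP (le_sup_right (a := UU σ z1 ⊔ UU σ z2) (mem_zpowers t))
  have hU1P : UU σ z1 ≤ P := (le_sup_left.trans le_sup_left).trans hRP
  have hU2P : UU σ z2 ≤ P := (le_sup_right.trans le_sup_left).trans hRP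
  -- `T`
  set K := KK (AA σ z1) (AA σ z2) with hK
  have hKt : ∀ f ∈ P ⊓ K, t * f * t⁻¹ ∈ P ⊓ K := fun f hf =>
    mem_inf.2 ⟨mul_mem (mul_mem htP (mem_inf.1 hf).1) (inv_mem htP), w.KK_normal w.t_MM (mem_inf.1 hf).2⟩
  have hUK1 : UU σ z1 ≤ P ⊓ K := le_inf hU1P ((hU1A.trans le_sup_left).trans w.D_le_KK)
  have hUK2 : UU σ z2 ≤ P ⊓ K := le_inf hU2P ((hU2A.trans le_sup_right).trans w.D_le_KK)
  have hT2 : IsPGroup 2 (P ⊓ K : Subgroup G) := hP.two.to_le inf_le_left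
  have hTn : P ⊓ K ≤ normalizer (AA σ z1 : Set G) := fun f hf => (mem_inf.1 (mem_inf.1 hf).2).1
  have hTA : P ⊓ K ⊓ AA σ z1 = UU σ z1 :=
    (HexToX.isSyl_U p.h1).max _ (hT2.to_le inf_le_left) inf_le_right (le_inf hUK1 hU1A)
  obtain ⟨g, hg, hgS, hy1, hgen, had⟩ := exists_adapted p.h1 hω h0 h1 hT2 hTn hTA
  set y1 : ZMod 12 → E → G := fun k a => g * z1 k a * g⁻¹ with hy1d
  set y2 : ZMod 12 → E → G := fun k a => t * y1 k a * t⁻¹ with hy2d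
  have hty : ∀ k a, t * y1 k a * t⁻¹ = y2 k a := fun k a => rfl
  have hty' : ∀ k a, t * y2 k a * t⁻¹ = y1 k a := fun k a => ht2 _
  have hy2 : HexTwo σ y2 := hy1.conj t
  have hgen2 : ∀ S, gen σ y2 S = gen σ z2 S := by
    intro S
    rw [gen_conj_eq (fun k a _ => hty k a) S, hgen, ← gen_conj_eq hsw S]
  have hA1 : AA σ y1 = AA σ z1 := hgen _
  have hA2 : AA σ y2 = AA σ z2 := hgen2 _
  have hV1 : UU σ y1 = UU σ z1 := hgen _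
  have hV2 : UU σ y2 = UU σ z2 := hgen2 _
  have hp : IsPair σ y1 y2 := by
    refine ⟨hy1, hy2, fun k l a b ha hb => w.comm _ ?_ _ ?_⟩
    · rw [← hA1]; exact x_mem_AA ha
    · rw [← hA2]; exact x_mem_AA hb
  -- the group `Y`
  have wM : ∀ {f : G}, f ∈ P ⊓ K → f ∈ MM (AA σ z1) (AA σ z2) := fun hf => KK_le_MM (mem_inf.1 hf).2
  let Y : Subgroup G :=
    { carrier := {f | f ∈ P ⊓ K ∧ (∃ ρ : E ≃+* E, Pure σ y1 f ρ) ∧ ∃ ρ : E ≃+* E, Pure σ y2 f ρ}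
      one_mem' := ⟨one_mem _, ⟨_, Pure.one⟩, ⟨_, Pure.one⟩⟩
      mul_mem' := by
        rintro a b ⟨ha, ⟨ρ, hρ⟩, ⟨ρ', hρ'⟩⟩ ⟨hb, ⟨τ, hτ⟩, ⟨τ', hτ'⟩⟩
        exact ⟨mul_mem ha hb, ⟨_, hρ.mul hτ⟩, ⟨_, hρ'.mul hτ'⟩⟩
      inv_mem' := by
        rintro a ⟨ha, ⟨ρ, hρ⟩, ⟨ρ', hρ'⟩⟩
        exact ⟨inv_mem ha, ⟨_, hρ.inv⟩, ⟨_, hρ'.inv⟩⟩ }
  have hYmem : ∀ {f : G}, f ∈ Y ↔ f ∈ P ⊓ K ∧ (∃ ρ : E ≃+* E, Pure σ y1 f ρ) ∧ ∃ ρ : E ≃+* E, Pure σ y2 f ρ :=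
    Iff.rfl
  have hYt : ∀ y ∈ Y, t * y * t⁻¹ ∈ Y := by
    rintro y ⟨hy, ⟨ρ, hρ⟩, ⟨ρ', hρ'⟩⟩
    exact ⟨hKt y hy, ⟨_, pure_conj (fun k a _ => hty' k a) hρ'⟩, ⟨_, pure_conj (fun k a _ => hty k a) hρ⟩⟩
  have hYc : ∀ y ∈ Y, ∀ y' ∈ Y, y * y' = y' * y := by
    rintro y ⟨hy, ⟨ρ, hρ⟩, ⟨ρ', hρ'⟩⟩ y' ⟨hy', ⟨τ, hτ⟩, ⟨τ', hτ'⟩⟩
    -- the commutator centralises `D`
    have hc : y * y' * y⁻¹ * y'⁻¹ ∈ P ⊓ K := mul_mem (mul_mem (mul_mem hy hy') (inv_mem hy)) (inv_mem hy')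
    have key : ∀ {v : ZMod 12 → E → G} {α β : E ≃+* E}, Pure σ v y α → Pure σ v y' β →
        ∀ k a, Ok σ k a → y * y' * y⁻¹ * y'⁻¹ * v k a = v k a * (y * y' * y⁻¹ * y'⁻¹) := by
      intro v α β hα hβ k a ha
      have e1 := (((hα.mul hβ).mul hα.inv).mul hβ.inv) k a ha
      have e2 : (α * β * α.symm * β.symm) a = a := by
        change α (β (α.symm (β.symm a))) = a
        rw [aut_comm α β, RingEquiv.apply_symm_apply, RingEquiv.apply_symm_apply]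
      rw [e2] at e1
      exact mul_inv_eq_iff_eq_mul.1 e1
    have hcl : ∀ {v : ZMod 12 → E → G} {α β : E ≃+* E}, Pure σ v y α → Pure σ v y' β →
        Cn (y * y' * y⁻¹ * y'⁻¹) (AA σ v) := by
      intro v α β hα hβ
      have : AA σ v ≤ centralizer ({y * y' * y⁻¹ * y'⁻¹} : Set G) := gen_le fun k _ a ha => by
        rw [mem_centralizer_singleton_iff]
        exact (key hα hβ k a ha).symm
      exact fun a ha => (mem_centralizer_singleton_iff.1 (this ha)).symm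
    have hc1 := hcl hρ hτ
    have hc2 := hcl hρ' hτ'
    rw [hA1] at hc1
    rw [hA2] at hc2
    obtain ⟨k, hk⟩ := hT2 ⟨_, hc⟩
    have h3 := w.cent_D_two cen (x := y * y' * y⁻¹ * y'⁻¹) (fun d hd => by
      obtain ⟨a, ha, b, hb, rfl⟩ := w.mem_D.1 hd
      calc y * y' * y⁻¹ * y'⁻¹ * (a * b) = (y * y' * y⁻¹ * y'⁻¹ * a) * b := by group
        _ = a * (y * y' * y⁻¹ * y'⁻¹ * b) := by rw [hc1 a ha]; group
        _ = a * b * (y * y' * y⁻¹ * y'⁻¹) := by rw [hc2 b hb]; group) (congrArg Subtype.val hk)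
    calc y * y' = (y * y' * y⁻¹ * y'⁻¹) * (y' * y) := by group
      _ = y' * y := by rw [h3, one_mul]
  -- the decomposition
  have hdec : ∀ f ∈ P, f ∈ K → ∃ u₁ ∈ UU σ y1, ∃ u₂ ∈ UU σ y2, ∃ y ∈ Y, f = u₁ * u₂ * y := by
    intro f hfP hfK
    have hf : f ∈ P ⊓ K := mem_inf.2 ⟨hfP, hfK⟩
    obtain ⟨u₁, hu₁, ρ, -, hρ⟩ := had f hf
    obtain ⟨v, hv, ρ', -, hρ'⟩ := had _ (hKt f hf)
    have hu₂ : t * v * t⁻¹ ∈ UU σ z2 := hUt v hv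
    set u₂ := t * v * t⁻¹ with hu₂d
    have hρ₂ : Pure σ y2 (u₂ * f) ρ' := by
      have h2 := pure_conj (fun k a (_ : Ok σ k a) => hty k a) hρ'
      have e : t * (v * (t * f * t⁻¹)) * t⁻¹ = u₂ * f := by
        calc t * (v * (t * f * t⁻¹)) * t⁻¹ = (t * v * t⁻¹) * (t * (t * f * t⁻¹) * t⁻¹) := by group
          _ = u₂ * f := by rw [ht2]
      rwa [e] at h2
    have c12 : u₁ * u₂ = u₂ * u₁ := w.comm _ (hU1A hu₁) _ (hU2A hu₂)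
    have hkeep := keeps_of_mem hfK
    have hmem : u₁ * u₂ * f ∈ P ⊓ K := mul_mem (mul_mem (hUK1 hu₁) (hUK2 hu₂)) hf
    refine ⟨u₁⁻¹, by rw [hV1]; exact inv_mem hu₁, u₂⁻¹, by rw [hV2]; exact inv_mem hu₂, u₁ * u₂ * f,
      ⟨hmem, ⟨ρ, fun k a ha => ?_⟩, ⟨ρ', fun k a ha => ?_⟩⟩, ?_⟩
    · -- on `y1`
      have h3 : y1 k a ∈ AA σ z1 := by rw [← hA1]; exact x_mem_AA ha
      have h4 := hkeep.1 _ h3
      have h5 := w.comm _ h4 _ (hU2A hu₂)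
      rw [← hρ k a ha]
      calc u₁ * u₂ * f * y1 k a * (u₁ * u₂ * f)⁻¹ = u₁ * (u₂ * (f * y1 k a * f⁻¹)) * u₂⁻¹ * u₁⁻¹ := by group
        _ = u₁ * ((f * y1 k a * f⁻¹) * u₂) * u₂⁻¹ * u₁⁻¹ := by rw [h5]
        _ = u₁ * f * y1 k a * (u₁ * f)⁻¹ := by group
    · have h3 : y2 k a ∈ AA σ z2 := by rw [← hA2]; exact x_mem_AA ha
      have h4 := hkeep.2 _ h3
      have h5 := w.comm _ (hU1A hu₁) _ h4
      rw [← hρ₂ k a ha]
      calc u₁ * u₂ * f * y2 k a * (u₁ * u₂ * f)⁻¹ = (u₂ * u₁) * f * y2 k a * ((u₂ * u₁) * f)⁻¹ := by rw [c12]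
        _ = u₂ * (u₁ * (f * y2 k a * f⁻¹)) * u₁⁻¹ * u₂⁻¹ := by group
        _ = u₂ * ((f * y2 k a * f⁻¹) * u₁) * u₁⁻¹ * u₂⁻¹ := by rw [h5]
        _ = u₂ * f * y2 k a * (u₂ * f)⁻¹ := by group
    · calc f = (u₂ * u₁)⁻¹ * (u₂ * u₁) * f := by group
        _ = (u₂ * u₁)⁻¹ * (u₁ * u₂) * f := by rw [c12]
        _ = u₁⁻¹ * u₂⁻¹ * (u₁ * u₂ * f) := by group
  have hcard2 : Nat.card (UU σ y2) = Nat.card (UU σ z1) := by
    rw [hV2, UU, gen_conj_eq hsw (arc 1 6), card_map_of_injective (MulAut.conj t).injective]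
    rfl
  refine ⟨y1, y2, hp, hty, hgen, hgen2, P, Y, fun f hf => ⟨hf.2.1, hf.2.2⟩, ?_⟩
  exact
    { w := by rw [hA1, hA2]; exact w
      cen := cen
      syl := by rw [hA1, hA2]; exact hP
      tP := htP
      YP := fun y hy => (mem_inf.1 (hYmem.1 hy).1).1
      YK := fun y hy => by rw [hA1, hA2]; exact (mem_inf.1 (hYmem.1 hy).1).2
      Yc := hYc
      Yt := hYt
      dec := fun f hf hfK => hdec f hf (by rw [hA1, hA2] at hfK; exact hfK)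
      U1P := by rw [hV1]; exact hU1P
      U2P := by rw [hV2]; exact hU2P
      s₁ := hside hy1 (fun f hf => hf.2.1) (by rw [hV1]; exact hn)
      s₂ := hside hy2 (fun f hf => hf.2.2) (by rw [hcard2]; exact hn) }

end Cfsg.Agent.HexOut
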