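import Cfsg.Agent.HexOut.FTwo
import Cfsg.Agent.WreathFusion.HexPair
import Cfsg.Agent.WreathFusion.HexPure
import Cfsg.Agent.StdRank2.HexBN

/-!
# The field `ks` of `Facts`: the normaliser of `P₀ = U₁U₂Y` permutes `⁅U₁, U₁⁆`, `⁅U₂, U₂⁆`

`U₁U₂ = C_{P₀}(Z(⁅P₀, P₀⁆))` if `Y ≠ 1`, and `U_i` is centrally indecomposable.
-/

set_option autoImplicit false
set_option linter.unusedSectionVars false

namespace Cfsg.Agent.HexOut

open Subgroup Cfsg.Agent.StdRank2.Hex Cfsg.Agent.StdRank2.Hex.HexTwo Cfsg.Agent.WreathFusion Cfsg.Agent.WreathFusion.HexPair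
open Cfsg.Agent.WreathFusion.HexPure Cfsg.Agent.WreathFusion.HexCoord Cfsg.Agent.WreathFusion.HexUni
open Cfsg.Agent.HexRec Cfsg.Agent.HexEss Cfsg.Agent.HexRec.FixedField
open scoped commutatorElement

namespace IKs

section Aut

variable {E : Type*} [Field E] [Finite E]

/-- a 2-element of `Aut(E)` which is trivial on the fixed field of `σ`, `σ³ = 1`, is trivial -/
theorem aut_eq_one {σ ρ : E ≃+* E} (h3 : ∀ a, σ (σ (σ a)) = a) {k : ℕ} (hk : ρ ^ 2 ^ k = 1)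
    (hf : ∀ a, σ a = a → ρ a = a) : ρ = 1 := by
  have hfin : Finite (E ≃+* E) := by
    apply Finite.of_injective (fun f : E ≃+* E => (f : E → E))
    intro f g hfg
    exact RingEquiv.ext fun a => congrFun hfg a
  have hσ3 : σ ^ 3 = 1 := by
    apply RingEquiv.ext
    intro a
    exact h3 a
  let H : Subgroup (E ≃+* E) := zpowers σ
  have hmem : σ ∈ H := mem_zpowers σ
  let f : E →ₐ[FixedPoints.subfield H E] E :=
    { ρ.toRingHom with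
      commutes' := fun a => hf a.1 (a.2 ⟨σ, hmem⟩) }
  obtain ⟨g, hg⟩ := (FixedPoints.toAlgHom_bijective H E).2 f
  have h1 : ρ = (g : E ≃+* E) := by
    apply RingEquiv.ext
    intro a
    have := congrArg (fun f : E →ₐ[FixedPoints.subfield H E] E => f a) hg
    exact this.symm
  have h2 : ρ ∈ H := by rw [h1]; exact g.2
  obtain ⟨i, hi⟩ := mem_zpowers_iff.1 h2
  have h4 : ρ ^ 3 = 1 := by
    rw [← hi, ← zpow_natCast, ← zpow_mul, mul_comm, zpow_mul, zpow_natCast, hσ3, one_zpow]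
  have h5 : orderOf ρ ∣ 3 := orderOf_dvd_of_pow_eq_one h4
  have h6 : orderOf ρ ∣ 2 ^ k := orderOf_dvd_of_pow_eq_one hk
  have h7 : orderOf ρ ∣ 1 := by
    have : Nat.Coprime 3 (2 ^ k) := Nat.Coprime.pow_right k (by norm_num)
    rw [← this]
    exact Nat.dvd_gcd h5 h6
  exact orderOf_eq_one_iff.1 (Nat.dvd_one.1 h7)

end Aut

section One

variable {E : Type*} [Field E] [Finite E] {σ : E ≃+* E} {Γ : Type*} [Group Γ] {x : ZMod 12 → E → Γ}

theorem mem_UU {k : ZMod 12} (hk : k = 1 ∨ k = 2 ∨ k = 3 ∨ k = 4 ∨ k = 5 ∨ k = 6) {a : E} (ha : Ok σ k a) :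
    x k a ∈ UU σ x := x_mem_gen (mem_arc_of k hk) ha

variable (h : HexTwo σ x)

include h

theorem four_mem {c : E} (hc : σ c = c) : x 4 c ∈ ⁅UU σ x, UU σ x⁆ := by
  have h1 := h.commL4 (k := 2) (by decide) (t := 1) (u := c) (map_one σ) hc
  rw [one_mul] at h1
  have h2 : (2 : ZMod 12) + 4 = 6 := by decide
  have h3 : (2 : ZMod 12) + 2 = 4 := by decide
  rw [h2, h3] at h1
  rw [← h1]
  exact commutator_mem_commutator (mem_UU (by simp) (ok_one σ _)) (mem_UU (by simp) (ok_of_fix _ hc))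

theorem four_comm {c : E} (hc : σ c = c) {u : Γ} (hu : u ∈ UU σ x) : u * x 4 c = x 4 c * u := by
  have h1 : UU σ x ≤ centralizer ({x 4 c} : Set Γ) := by
    refine gen_le fun k hk a ha => ?_
    rw [mem_centralizer_singleton_iff]
    have hk' : k = 1 ∨ k = 2 ∨ k = 3 ∨ k = 4 ∨ k = 5 ∨ k = 6 := by
      rw [mem_arc, set_pos] at hk
      exact hk
    rcases hk' with rfl | rfl | rfl | rfl | rfl | rfl
    · exact h.s14 a hc
    · exact h.s24 (ha (by decide)) hc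
    · exact h.s34 a hc
    · rw [← h.add 4 _ _ ha (ok_of_fix _ hc), ← h.add 4 _ _ (ok_of_fix _ hc) ha, add_comm]
    · exact (h.s45 hc a).symm
    · exact (h.s46 hc (ha (by decide))).symm
  exact mem_centralizer_singleton_iff.1 (h1 hu)

theorem not_abelian : ¬ ∀ u ∈ UU σ x, ∀ v ∈ UU σ x, u * v = v * u := by
  intro hab
  have h1 : x 4 1 ∈ ⁅UU σ x, UU σ x⁆ := four_mem h (map_one σ)
  have h2 : ⁅UU σ x, UU σ x⁆ ≤ ⊥ := by
    rw [commutator_le]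
    intro u hu v hv
    rw [mem_bot, commutatorElement_eq_one_iff_mul_comm]
    exact hab u hu v hv
  exact one_ne_zero (h.inj 4 1 (ok_one σ _) (mem_bot.1 (h2 h1)))

end One

section Coords

variable {F K : Type*} [Field F] [Field K] [Algebra F K] {C : Cubic F K}
variable {G : Type*} [Group G] {P : Subgroup G}

/-- coordinates of the centraliser of `⁅P, P⁆` -/
theorem coords_of_comm (co : Coord C P) (hG : Gd C) {x : G} (hxP : x ∈ P)
    (hxC : ∀ w ∈ ⁅P, P⁆, x * w = w * x) :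
    (cx co x).a1 = 0 ∧ (cx co x).a3 = 0 ∧ (cx co x).a5 = 0 ∧ (cx co x).a6 = 0 := by
  have hc : ∀ w ∈ ⁅P, P⁆, cm x w = 1 := fun w hw => cm_eq_one.2 (hxC w hw)
  have hPP : ⁅P, P⁆ ≤ P := Subgroup.commutator_le_self P
  -- `X₂ ≤ P'`
  have hX2 : ∀ p : F, ∃ w ∈ ⁅P, P⁆, cx co w = ⟨0, p, 0, 0, 0, 0⟩ := by
    intro p
    obtain ⟨g, hg, hgc⟩ := exists_cx (co := co) ⟨1, 0, 0, 0, 0, 0⟩
    obtain ⟨h, hh, hhc⟩ := exists_cx (co := co) ⟨0, 0, algebraMap F K p, 0, 0, 0⟩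
    have e1 : (cx co h).a1 = 0 := by rw [hhc]
    have e5 : (cx co h).a5 = 0 := by rw [hhc]
    have e6 : (cx co h).a6 = 0 := by rw [hhc]
    refine ⟨cm g h, cm_mem_commutator hg hh, Tup.ext (a1_cm hg hh) ?_ (a3_cm_F0 hg hh e1 e5 e6) ?_
      (a5_cm_R hg hh e1 e6) (a6_cm hg hh)⟩
    · rw [a2_cm_F0 hg hh e1 e5 e6, hgc, hhc]
      change C.T 1 (algebraMap F K p) = p
      unfold Cubic.T
      rw [one_mul, Algebra.algebraMap_eq_smul_one, map_smul, C.tr_one, smul_eq_mul, mul_one]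
    · rw [a4_cm_F0 hg hh e1 e5 e6, hgc, hhc]
      change (0 : F) * 0 + C.T 0 _ = 0
      rw [C.T_zero_left, mul_zero, add_zero]
  -- `a6 x = 0`
  have h6 : (cx co x).a6 = 0 := by
    obtain ⟨w, hw, hwc⟩ := hX2 1
    have e1 : (cx co w).a1 = 0 := by rw [hwc]
    have e5 : (cx co w).a5 = 0 := by rw [hwc]
    have e6 : (cx co w).a6 = 0 := by rw [hwc]
    have := a4_cm_F0 (co := co) hxP (hPP hw) e1 e5 e6
    rw [hc w hw, cx_one, hwc] at this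
    change (0 : F) = (cx co x).a6 * 1 + C.T _ 0 at this
    rw [C.T_zero_right, mul_one, add_zero] at this
    exact this.symm
  -- the elements `[x1(t), x6(1)]`
  have hW : ∀ t : K, ∃ w ∈ ⁅P, P⁆, (cx co w).a1 = 0 ∧ (cx co w).a6 = 0 ∧ (cx co w).a5 = t ∧
      (cx co w).a3 = C.sh t := by
    intro t
    obtain ⟨g, hg, hgc⟩ := exists_cx (co := co) ⟨t, 0, 0, 0, 0, 0⟩
    obtain ⟨h, hh, hhc⟩ := exists_cx (co := co) ⟨0, 0, 0, 0, 0, 1⟩
    have e1 : (cx co h).a1 = 0 := by rw [hhc]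
    refine ⟨cm g h, cm_mem_commutator hg hh, a1_cm hg hh, a6_cm hg hh, ?_, ?_⟩
    · rw [a5_cm_Da hg hh e1, hgc, hhc]
      exact one_smul _ _
    · rw [a3_cm_Da hg hh e1, hgc, hhc]
      change (1 : F) • C.sh t + C.cr t 0 = C.sh t
      rw [C.cr_zero_right, one_smul, add_zero]
  have hV : ∀ t r : K, ∃ w ∈ ⁅P, P⁆, (cx co w).a1 = 0 ∧ (cx co w).a6 = 0 ∧ (cx co w).a5 = 0 ∧
      (cx co w).a3 = C.cr t r := by
    intro t r
    obtain ⟨g, hg, hgc⟩ := exists_cx (co := co) ⟨t, 0, 0, 0, 0, 0⟩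
    obtain ⟨h, hh, hhc⟩ := exists_cx (co := co) ⟨0, 0, 0, 0, r, 0⟩
    have e1 : (cx co h).a1 = 0 := by rw [hhc]
    have e6 : (cx co h).a6 = 0 := by rw [hhc]
    refine ⟨cm g h, cm_mem_commutator hg hh, a1_cm hg hh, a6_cm hg hh, a5_cm_R hg hh e1 e6, ?_⟩
    rw [a3_cm_R hg hh e1 e6, hgc, hhc]
  have h1 : (cx co x).a1 = 0 := by
    apply hG.g2
    · intro t
      obtain ⟨w, hw, w1, w6, w5, -⟩ := hW t
      have := a3_cm_R (co := co) hxP (hPP hw) w1 w6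
      rw [hc w hw, cx_one, w5] at this
      exact this.symm
    · intro t
      obtain ⟨w, hw, w1, w6, w5, w3⟩ := hW t
      have := a2_cm_R (co := co) hxP (hPP hw) w1 w6
      rw [hc w hw, cx_one, w5, w3] at this
      exact this.symm
  have h53 : (cx co x).a5 = 0 ∧ (cx co x).a3 = 0 := by
    apply hG.g3
    · intro t
      obtain ⟨w, hw, w1, w6, w5, w3⟩ := hW t
      have := a4_cm_R (co := co) hxP (hPP hw) w1 w6
      rw [hc w hw, cx_one, w5, w3, h6, h1, zero_mul, C.T_zero_left, zero_add, add_zero] at this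
      exact this.symm
    · intro t r
      obtain ⟨w, hw, w1, w6, w5, w3⟩ := hV t r
      have := a4_cm_R (co := co) hxP (hPP hw) w1 w6
      rw [hc w hw, cx_one, w5, w3, h6, h1, zero_mul, C.T_zero_left, zero_add, add_zero, C.T_zero_right,
        add_zero] at this
      exact this.symm
  exact ⟨h1, h53.2, h53.1, h6⟩

end Coords

section Two

variable {E : Type*} [Field E] [Finite E] {σ : E ≃+* E} {Γ : Type*} [Group Γ] {x : ZMod 12 → E → Γ}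
variable (h : HexTwo σ x)

include h

/-- the coordinates of `x 6 d` -/
theorem cx_six {d : E} (hd : σ d = d) : cx (coord h) (x 6 d) = ⟨0, 0, 0, 0, 0, ⟨d, (mem_Fx σ).2 hd⟩⟩ := by
  have hm : x 6 d ∈ gen σ x (arc 1 6) := mem_UU (by simp) (ok_of_fix _ hd)
  rw [cx_eq hm]
  apply (coord h).e.symm.injective
  rw [Equiv.symm_apply_apply]
  apply Subtype.ext
  show x 6 d = x 1 0 * (x 2 _ * (x 3 0 * (x 4 _ * (x 5 0 * x 6 _))))
  simp only [ZeroMemClass.coe_zero, h.x_zero, one_mul]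

theorem center_of (hq : 2 < Nat.card {a : E // σ a = a}) {w : Γ} (hw : w ∈ UU σ x)
    (hc : ∀ v ∈ ⁅UU σ x, UU σ x⁆, w * v = v * w) {d : E} (hd : σ d = d) (hd0 : d ≠ 0)
    (h6 : w * x 6 d = x 6 d * w) {u : Γ} (hu : u ∈ UU σ x) : w * u = u * w := by
  obtain ⟨e1, e3, e5, e6⟩ := coords_of_comm (coord h) (gd h (Or.inl hq)) hw hc
  have hm : x 6 d ∈ gen σ x (arc 1 6) := mem_UU (by simp) (ok_of_fix _ hd)
  have e2 : (cx (coord h) w).a2 = 0 := by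
    have h7 := a4_cm_F0 (co := coord h) hm hw e1 e5 e6
    rw [cm_eq_one.2 h6.symm, cx_one, cx_six h hd, e3, Cubic.T_zero_right, add_zero] at h7
    rcases mul_eq_zero.1 h7.symm with h8 | h8
    · exact absurd (congrArg Subtype.val h8) hd0
    · exact h8
  exact (comm_of_center (co := coord h) hw e1 e2 e3 e5 e6 hu).symm

end Two

section Act

variable {E : Type*} [Field E] [Finite E] {σ : E ≃+* E} {Γ : Type*} [Group Γ] {x : ZMod 12 → E → Γ}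

theorem pure_pow {g : Γ} {ρ : E ≃+* E} (h : Pure σ x g ρ) (n : ℕ) : Pure σ x (g ^ n) (ρ ^ n) := by
  induction n with
  | zero => rw [pow_zero, pow_zero]; exact Pure.one
  | succ n ih => rw [pow_succ, pow_succ]; exact ih.mul h

theorem cn_of_one {g : Γ} (hg : Pure σ x g 1) : Cn g (AA σ x) := by
  have h1 : AA σ x ≤ centralizer ({g} : Set Γ) := by
    refine gen_le fun k _ a ha => ?_
    rw [mem_centralizer_singleton_iff]
    have h2 : g * x k a * g⁻¹ = x k a := hg k a ha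
    rw [mul_inv_eq_iff_eq_mul] at h2
    exact h2.symm
  intro a ha
  exact (mem_centralizer_singleton_iff.1 (h1 ha)).symm

variable (h : HexTwo σ x)

include h

/-- a pure 2-element which is trivial on the fixed field centralises everything -/
theorem cn_of_fix {g : Γ} {ρ : E ≃+* E} (hg : Pure σ x g ρ) {k : ℕ} (hk : g ^ 2 ^ k = 1)
    (hf : ∀ c, σ c = c → ρ c = c) : Cn g (AA σ x) := by
  have h1 : ρ ^ 2 ^ k = 1 := by
    apply RingEquiv.ext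
    intro a
    have h2 := pure_pow hg (2 ^ k) 1 a (ok_odd (by decide) a)
    rw [hk, one_mul, inv_one, mul_one] at h2
    exact ((h.x_inj (ok_odd (by decide) _) (ok_odd (by decide) _)).1 h2).symm
  have h3 : ρ = 1 := aut_eq_one h.cube h1 hf
  rw [h3] at hg
  exact cn_of_one hg

theorem cn_of_four {g : Γ} {ρ : E ≃+* E} (hg : Pure σ x g ρ) {k : ℕ} (hk : g ^ 2 ^ k = 1)
    (hf : ∀ c, σ c = c → g * x 4 c = x 4 c * g) : Cn g (AA σ x) := by
  refine cn_of_fix h hg hk fun c hc => ?_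
  have h1 := hg 4 c (ok_of_fix _ hc)
  rw [hf c hc, mul_inv_cancel_right] at h1
  exact ((h.x_inj (ok_of_fix _ hc) (ok_aut (ok_of_fix _ hc))).1 h1).symm

/-- a non-trivial pure 2-element has a non-trivial commutator in `X₆` -/
theorem exists_six {g : Γ} {ρ : E ≃+* E} (hg : Pure σ x g ρ) {k : ℕ} (hk : g ^ 2 ^ k = 1)
    (hn : ¬ Cn g (AA σ x)) : ∃ b d, σ b = b ∧ σ d = d ∧ d ≠ 0 ∧ ⁅g, x 6 b⁆ = x 6 d := by
  have h1 : ∃ b, σ b = b ∧ ρ b ≠ b := by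
    by_contra hcon
    push Not at hcon
    exact hn (cn_of_fix h hg hk hcon)
  obtain ⟨b, hb, hρ⟩ := h1
  have hok : Ok σ 6 b := ok_of_fix _ hb
  have hρb : σ (ρ b) = ρ b := by rw [← aut_comm ρ σ, hb]
  refine ⟨b, ρ b + b, hb, by rw [map_add, hρb, hb], ?_, ?_⟩
  · intro h2
    apply hρ
    have h3 : ρ b = -b := eq_neg_of_add_eq_zero_left h2
    rw [h3]
    have h4 : b + b = 0 := h.add_self b
    exact neg_eq_of_add_eq_zero_left h4
  · rw [commutatorElement_def, hg 6 b hok, h.x_inv hok, h.add 6 _ _ (ok_aut hok) hok]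

end Act

section Main

variable {E : Type*} [Field E] [Finite E] {σ : E ≃+* E} {G : Type*} [Group G] [Finite G]
variable {y1 y2 : ZMod 12 → E → G} {A : Subgroup G} {t : G} {P Y : Subgroup G} {c n₀ : ℕ}
variable (p : IsPair σ y1 y2) (C : Cfg A (AA σ y1) (AA σ y2) t P (UU σ y1) (UU σ y2) Y c n₀)

include C

theorem Y_S {y s : G} (hy : y ∈ Y) (hs : s ∈ UU σ y1 ⊔ UU σ y2) : y * s * y⁻¹ ∈ UU σ y1 ⊔ UU σ y2 := by
  obtain ⟨a, ha, b, hb, rfl⟩ := C.mem_S.1 hs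
  refine C.mem_S.2 ⟨_, C.s₁.nU y hy a ha, _, C.s₂.nU y hy b hb, by group⟩

theorem S_le : UU σ y1 ⊔ UU σ y2 ≤ P ⊓ KK (AA σ y1) (AA σ y2) := by
  rw [← C.inf_D]
  exact inf_le_inf_left _ C.w.D_le_KK

theorem comm_le : ⁅P ⊓ KK (AA σ y1) (AA σ y2), P ⊓ KK (AA σ y1) (AA σ y2)⁆ ≤ UU σ y1 ⊔ UU σ y2 := by
  rw [commutator_le]
  intro a ha b hb
  obtain ⟨a1, h1, a2, h2, y, hy, rfl⟩ := C.dec a (mem_inf.1 ha).1 (mem_inf.1 ha).2
  obtain ⟨b1, h3, b2, h4, y', hy', rfl⟩ := C.dec b (mem_inf.1 hb).1 (mem_inf.1 hb).2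
  have hs : a1 * a2 ∈ UU σ y1 ⊔ UU σ y2 := C.mem_S.2 ⟨_, h1, _, h2, rfl⟩
  have hs' : b1 * b2 ∈ UU σ y1 ⊔ UU σ y2 := C.mem_S.2 ⟨_, h3, _, h4, rfl⟩
  have e : ⁅a1 * a2 * y, b1 * b2 * y'⁆ =
      (a1 * a2) * (y * (b1 * b2) * y⁻¹) * (y' * (a1 * a2)⁻¹ * y'⁻¹) * (b1 * b2)⁻¹ := by
    have h5 : y * y' * y⁻¹ = y' := by rw [C.Yc y hy y' hy']; group
    calc ⁅a1 * a2 * y, b1 * b2 * y'⁆ =
        (a1 * a2) * (y * (b1 * b2) * y⁻¹) * (y * y' * y⁻¹) * (a1 * a2)⁻¹ * y'⁻¹ * (b1 * b2)⁻¹ := by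
          rw [commutatorElement_def]; group
      _ = _ := by rw [h5]; group
  rw [e]
  exact mul_mem (mul_mem (mul_mem hs (Y_S C hy hs')) (Y_S C hy' (inv_mem hs))) (inv_mem hs')

/-- both factors are moved -/
theorem exists_move (hY : ∃ y ∈ Y, y ≠ 1) : (∃ y ∈ Y, ¬ Cn y (AA σ y1)) ∧ (∃ y ∈ Y, ¬ Cn y (AA σ y2)) := by
  have k1 : ∀ y ∈ Y, Cn (t * y * t⁻¹) (AA σ y2) → Cn y (AA σ y1) := by
    intro y _ h a ha
    have h1 := h _ (C.w.sw.1 a ha)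
    have h2 : t * (y * a) * t⁻¹ = t * (a * y) * t⁻¹ := by
      calc t * (y * a) * t⁻¹ = (t * y * t⁻¹) * (t * a * t⁻¹) := by group
        _ = (t * a * t⁻¹) * (t * y * t⁻¹) := h1
        _ = _ := by group
    exact mul_left_cancel (mul_right_cancel h2)
  have k2 : ∀ y ∈ Y, Cn (t * y * t⁻¹) (AA σ y1) → Cn y (AA σ y2) := by
    intro y _ h a ha
    have h1 := h _ (C.w.sw.2 a ha)
    have h2 : t * (y * a) * t⁻¹ = t * (a * y) * t⁻¹ := by
      calc t * (y * a) * t⁻¹ = (t * y * t⁻¹) * (t * a * t⁻¹) := by group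
        _ = (t * a * t⁻¹) * (t * y * t⁻¹) := h1
        _ = _ := by group
    exact mul_left_cancel (mul_right_cancel h2)
  obtain ⟨y, hy, hy1⟩ := hY
  by_cases h1 : Cn y (AA σ y1)
  · have h2 : ¬ Cn y (AA σ y2) := fun h2 => hy1 (C.Y_faithful hy h1 h2)
    exact ⟨⟨t * y * t⁻¹, C.Yt y hy, fun h => h2 (k2 y hy h)⟩, ⟨y, hy, h2⟩⟩
  · exact ⟨⟨y, hy, h1⟩, ⟨t * y * t⁻¹, C.Yt y hy, fun h => h1 (k1 y hy h)⟩⟩

/-- the center of `⁅P₀, P₀⁆` -/
def Zd (A₁ A₂ P : Subgroup G) : Subgroup G :=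
  ⁅P ⊓ KK A₁ A₂, P ⊓ KK A₁ A₂⁆ ⊓ centralizer ((⁅P ⊓ KK A₁ A₂, P ⊓ KK A₁ A₂⁆ : Subgroup G) : Set G)

omit C in
theorem comm12 (p : IsPair σ y1 y2) {a b : G} (ha : a ∈ AA σ y1) (hb : b ∈ AA σ y2) : a * b = b * a :=
  (mem_centralizer_iff.1 (p.le_centralizer Set.univ Set.univ ha) b hb).symm

theorem U1_le : UU σ y1 ≤ P ⊓ KK (AA σ y1) (AA σ y2) := le_sup_left.trans (S_le C)

theorem U2_le : UU σ y2 ≤ P ⊓ KK (AA σ y1) (AA σ y2) := le_sup_right.trans (S_le C)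

include p in
/-- the first component of an element of `Z(⁅P₀, P₀⁆)` is central in `U₁` -/
theorem comp_central (hq : 2 < Nat.card {a : E // σ a = a}) (hp1 : ∀ g ∈ Y, ∃ ρ, Pure σ y1 g ρ)
    (hY : ∃ y ∈ Y, ¬ Cn y (AA σ y1)) {u₁ u₂ : G} (h1 : u₁ ∈ UU σ y1) (h2 : u₂ ∈ UU σ y2)
    (hw : ∀ v ∈ ⁅P ⊓ KK (AA σ y1) (AA σ y2), P ⊓ KK (AA σ y1) (AA σ y2)⁆, (u₁ * u₂) * v = v * (u₁ * u₂))
    {u : G} (hu : u ∈ UU σ y1) : u₁ * u = u * u₁ := by
  -- elements of `U₁` commuting with `u₁ u₂` commute with `u₁`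
  have key : ∀ v ∈ UU σ y1, (u₁ * u₂) * v = v * (u₁ * u₂) → u₁ * v = v * u₁ := by
    intro v hv h
    have h3 : v * u₂ = u₂ * v := comm12 p (C.U1A hv) (C.U2A h2)
    have h4 : (u₁ * v) * u₂ = (v * u₁) * u₂ := by
      calc (u₁ * v) * u₂ = u₁ * (v * u₂) := by group
        _ = u₁ * (u₂ * v) := by rw [h3]
        _ = (u₁ * u₂) * v := by group
        _ = v * (u₁ * u₂) := h
        _ = _ := by group
    exact mul_right_cancel h4
  obtain ⟨y, hy, hn⟩ := hY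
  obtain ⟨ρ, hρ⟩ := hp1 y hy
  obtain ⟨k, hk⟩ := C.two (C.YP hy)
  obtain ⟨b, d, hb, hd, hd0, e⟩ := exists_six p.h1 hρ hk hn
  have hy0 : y ∈ P ⊓ KK (AA σ y1) (AA σ y2) := mem_inf.2 ⟨C.YP hy, C.YK hy⟩
  have hb0 : y1 6 b ∈ UU σ y1 := mem_UU (by simp) (ok_of_fix _ hb)
  have hd1 : y1 6 d ∈ UU σ y1 := mem_UU (by simp) (ok_of_fix _ hd)
  have hd2 : y1 6 d ∈ ⁅P ⊓ KK (AA σ y1) (AA σ y2), P ⊓ KK (AA σ y1) (AA σ y2)⁆ := by
    rw [← e]
    exact commutator_mem_commutator hy0 (U1_le C hb0)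
  refine center_of p.h1 hq h1 (fun v hv => ?_) hd hd0 (key _ hd1 (hw _ hd2)) hu
  exact key v (commutator_le_self _ hv) (hw v (commutator_mono (U1_le C) (U1_le C) hv))

include p in
/-- `Z(⁅P₀, P₀⁆)` is central in `U₁U₂` -/
theorem Zd_comm (hq : 2 < Nat.card {a : E // σ a = a}) (hp1 : ∀ g ∈ Y, ∃ ρ, Pure σ y1 g ρ)
    (hp2 : ∀ g ∈ Y, ∃ ρ, Pure σ y2 g ρ) (hY : ∃ y ∈ Y, y ≠ 1) {w s : G} (hw : w ∈ Zd (AA σ y1) (AA σ y2) P)
    (hs : s ∈ UU σ y1 ⊔ UU σ y2) : w * s = s * w := by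
  obtain ⟨hm1, hm2⟩ := exists_move C hY
  obtain ⟨hwD, hwC⟩ := mem_inf.1 hw
  obtain ⟨u₁, h1, u₂, h2, rfl⟩ := C.mem_S.1 (comm_le C hwD)
  obtain ⟨a, ha, b, hb, rfl⟩ := C.mem_S.1 hs
  have hc : ∀ v ∈ ⁅P ⊓ KK (AA σ y1) (AA σ y2), P ⊓ KK (AA σ y1) (AA σ y2)⁆, (u₁ * u₂) * v = v * (u₁ * u₂) :=
    fun v hv => (mem_centralizer_iff.1 hwC v hv).symm
  have h3 : u₁ * a = a * u₁ := comp_central p C hq hp1 hm1 h1 h2 hc ha
  have h4 : u₂ * b = b * u₂ := by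
    have hKK : KK (AA σ y2) (AA σ y1) = KK (AA σ y1) (AA σ y2) := by unfold KK; rw [inf_comm]
    refine comp_central p.symm C.symm hq hp2 hm2 h2 h1 (fun v hv => ?_) hb
    rw [hKK] at hv
    rw [← comm12 p (C.U1A h1) (C.U2A h2)]
    exact hc v hv
  have h5 : u₂ * a = a * u₂ := (comm12 p (C.U1A ha) (C.U2A h2)).symm
  have h6 : u₁ * b = b * u₁ := comm12 p (C.U1A h1) (C.U2A hb)
  calc u₁ * u₂ * (a * b) = u₁ * (u₂ * a) * b := by group
    _ = (u₁ * a) * (u₂ * b) := by rw [h5]; group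
    _ = a * (u₁ * b) * u₂ := by rw [h3, h4]; group
    _ = a * b * (u₁ * u₂) := by rw [h6]; group

include p in
theorem four_mem_Zd (c : E) (hc : σ c = c) : y1 4 c ∈ Zd (AA σ y1) (AA σ y2) P := by
  have h0 : y1 4 c ∈ UU σ y1 := mem_UU (by simp) (ok_of_fix _ hc)
  refine mem_inf.2 ⟨commutator_mono (U1_le C) (U1_le C) (four_mem p.h1 hc), ?_⟩
  rw [mem_centralizer_iff]
  intro v hv
  obtain ⟨a, ha, b, hb, rfl⟩ := C.mem_S.1 (comm_le C hv)
  have h1 := four_comm p.h1 hc ha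
  have h2 := comm12 p (C.U1A h0) (C.U2A hb)
  calc a * b * y1 4 c = a * (b * y1 4 c) := by group
    _ = (a * y1 4 c) * b := by rw [← h2]; group
    _ = y1 4 c * (a * b) := by rw [h1]; group

include p in
/-- `C_{P₀}(Z(⁅P₀, P₀⁆)) = U₁U₂` -/
theorem mem_S_iff (hq : 2 < Nat.card {a : E // σ a = a}) (hp1 : ∀ g ∈ Y, ∃ ρ, Pure σ y1 g ρ)
    (hp2 : ∀ g ∈ Y, ∃ ρ, Pure σ y2 g ρ) (hY : ∃ y ∈ Y, y ≠ 1) {x : G}
    (hx : x ∈ P ⊓ KK (AA σ y1) (AA σ y2)) :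
    x ∈ UU σ y1 ⊔ UU σ y2 ↔ ∀ w ∈ Zd (AA σ y1) (AA σ y2) P, x * w = w * x := by
  refine ⟨fun h w hw => (Zd_comm p C hq hp1 hp2 hY hw h).symm, fun h => ?_⟩
  obtain ⟨u₁, h1, u₂, h2, y, hy, rfl⟩ := C.dec x (mem_inf.1 hx).1 (mem_inf.1 hx).2
  obtain ⟨k, hk⟩ := C.two (C.YP hy)
  have hs : u₁ * u₂ ∈ UU σ y1 ⊔ UU σ y2 := C.mem_S.2 ⟨_, h1, _, h2, rfl⟩
  have key : ∀ w ∈ Zd (AA σ y1) (AA σ y2) P, y * w = w * y := by
    intro w hw
    have h3 := h w hw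
    have h4 := Zd_comm p C hq hp1 hp2 hY hw hs
    have h5 : (u₁ * u₂) * (y * w) = (u₁ * u₂) * (w * y) := by
      calc (u₁ * u₂) * (y * w) = (u₁ * u₂ * y) * w := by group
        _ = w * (u₁ * u₂ * y) := h3
        _ = (w * (u₁ * u₂)) * y := by group
        _ = _ := by rw [h4]; group
    exact mul_left_cancel h5
  have hKK : KK (AA σ y2) (AA σ y1) = KK (AA σ y1) (AA σ y2) := by unfold KK; rw [inf_comm]
  have hc1 : Cn y (AA σ y1) := by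
    obtain ⟨ρ, hρ⟩ := hp1 y hy
    exact cn_of_four p.h1 hρ hk fun c hc => key _ (four_mem_Zd p C c hc)
  have hc2 : Cn y (AA σ y2) := by
    obtain ⟨ρ, hρ⟩ := hp2 y hy
    refine cn_of_four p.h2 hρ hk fun c hc => key _ ?_
    have := four_mem_Zd p.symm C.symm c hc
    unfold Zd at this ⊢
    rwa [hKK] at this
  rw [C.Y_faithful hy hc1 hc2, mul_one]
  exact hs

include p in
/-- `U₁U₂` is normalised by `N(P₀)` -/
theorem conj_S (hq : 2 < Nat.card {a : E // σ a = a}) (hp1 : ∀ g ∈ Y, ∃ ρ, Pure σ y1 g ρ)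
    (hp2 : ∀ g ∈ Y, ∃ ρ, Pure σ y2 g ρ) {n : G}
    (hn : n ∈ normalizer ((P ⊓ KK (AA σ y1) (AA σ y2) : Subgroup G) : Set G)) {s : G}
    (hs : s ∈ UU σ y1 ⊔ UU σ y2) : n * s * n⁻¹ ∈ UU σ y1 ⊔ UU σ y2 := by
  by_cases hY : ∃ y ∈ Y, y ≠ 1
  · have hs0 := S_le C hs
    rw [mem_S_iff p C hq hp1 hp2 hY ((mem_normalizer_iff.1 hn s).1 hs0)]
    intro w hw
    -- `n⁻¹ w n ∈ Z(⁅P₀, P₀⁆)`
    have hni : n⁻¹ ∈ normalizer ((P ⊓ KK (AA σ y1) (AA σ y2) : Subgroup G) : Set G) := inv_mem hn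
    have hconj : ∀ m ∈ normalizer ((P ⊓ KK (AA σ y1) (AA σ y2) : Subgroup G) : Set G),
        ∀ v ∈ ⁅P ⊓ KK (AA σ y1) (AA σ y2), P ⊓ KK (AA σ y1) (AA σ y2)⁆,
          m * v * m⁻¹ ∈ ⁅P ⊓ KK (AA σ y1) (AA σ y2), P ⊓ KK (AA σ y1) (AA σ y2)⁆ := by
      intro m hm v hv
      have h1 : ⁅P ⊓ KK (AA σ y1) (AA σ y2), P ⊓ KK (AA σ y1) (AA σ y2)⁆ ≤
          (⁅P ⊓ KK (AA σ y1) (AA σ y2), P ⊓ KK (AA σ y1) (AA σ y2)⁆ : Subgroup G).comap
            (MulAut.conj m).toMonoidHom := by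
        rw [commutator_le]
        intro a ha b hb
        have e : (MulAut.conj m).toMonoidHom ⁅a, b⁆ = ⁅m * a * m⁻¹, m * b * m⁻¹⁆ := by
          rw [map_commutatorElement]; rfl
        rw [mem_comap, e]
        exact commutator_mem_commutator ((mem_normalizer_iff.1 hm a).1 ha) ((mem_normalizer_iff.1 hm b).1 hb)
      exact h1 hv
    have hw' : n⁻¹ * w * n ∈ Zd (AA σ y1) (AA σ y2) P := by
      refine mem_inf.2 ⟨?_, ?_⟩
      · have := hconj n⁻¹ hni w (mem_inf.1 hw).1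
        rwa [inv_inv] at this
      · rw [mem_centralizer_iff]
        intro v hv
        have h1 := mem_centralizer_iff.1 (mem_inf.1 hw).2 _ (hconj n hn v hv)
        calc v * (n⁻¹ * w * n) = n⁻¹ * ((n * v * n⁻¹) * w) * n := by group
          _ = n⁻¹ * (w * (n * v * n⁻¹)) * n := by rw [h1]
          _ = _ := by group
    have h2 := (mem_S_iff p C hq hp1 hp2 hY hs0).1 hs _ hw'
    calc n * s * n⁻¹ * w = n * (s * (n⁻¹ * w * n)) * n⁻¹ := by group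
      _ = n * ((n⁻¹ * w * n) * s) * n⁻¹ := by rw [h2]
      _ = _ := by group
  · push Not at hY
    have h1 : P ⊓ KK (AA σ y1) (AA σ y2) ≤ UU σ y1 ⊔ UU σ y2 := by
      intro x hx
      obtain ⟨u₁, h1, u₂, h2, y, hy, rfl⟩ := C.dec x (mem_inf.1 hx).1 (mem_inf.1 hx).2
      rw [hY y hy, mul_one]
      exact C.mem_S.2 ⟨_, h1, _, h2, rfl⟩
    exact h1 ((mem_normalizer_iff.1 hn s).1 (S_le C hs))

/-- a subgroup of `U₁U₂` centralising `U₂` has commutator subgroup in `U₁` -/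
theorem comm_le_of_cent {D : Subgroup G} (hD : D ≤ UU σ y1 ⊔ UU σ y2) (hc : D ≤ centralizer (UU σ y2 : Set G)) :
    ⁅D, D⁆ ≤ UU σ y1 := by
  rw [commutator_le]
  intro a ha b hb
  obtain ⟨a1, h1, a2, h2, ea⟩ := C.mem_S.1 (hD ha)
  obtain ⟨b1, h3, b2, h4, eb⟩ := C.mem_S.1 (hD hb)
  -- `a` commutes with `b2`, `b` commutes with `a2`
  have h5 : a * b2 = b2 * a := (mem_centralizer_iff.1 (hc ha) b2 h4).symm
  have h6 : a2 * b = b * a2 := mem_centralizer_iff.1 (hc hb) a2 h2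
  have h7 : a2 * b1 = b1 * a2 := (C.comm (C.U1A h3) (C.U2A h2)).symm
  have h8 : b2 * a1 = a1 * b2 := (C.comm (C.U1A h1) (C.U2A h4)).symm
  -- `a2` commutes with `b2`
  have h9 : a2 * b2 = b2 * a2 := by
    rw [ea] at h5
    have h10 : a1 * (a2 * b2) = a1 * (b2 * a2) := by
      calc a1 * (a2 * b2) = a1 * a2 * b2 := by group
        _ = (b2 * a1) * a2 := by rw [h5]; group
        _ = _ := by rw [h8]; group
    exact mul_left_cancel h10
  have e : ⁅a, b⁆ = ⁅a1, b1⁆ := by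
    have e1 : a * b = (a1 * b1) * (a2 * b2) := by
      rw [ea, eb]
      calc a1 * a2 * (b1 * b2) = a1 * (a2 * b1) * b2 := by group
        _ = _ := by rw [h7]; group
    have e2 : b * a = (b1 * a1) * (a2 * b2) := by
      rw [ea, eb]
      calc b1 * b2 * (a1 * a2) = b1 * (b2 * a1) * a2 := by group
        _ = (b1 * a1) * (b2 * a2) := by rw [h8]; group
        _ = _ := by rw [h9]
    have e3 : ∀ a b : G, ⁅a, b⁆ = (a * b) * (b * a)⁻¹ := fun a b => by rw [commutatorElement_def]; group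
    rw [e3, e3, e1, e2]
    group
  rw [e]
  exact commutator_le_self (UU σ y1) (commutator_mem_commutator h1 h3)

include p in
/-- **The field `ks`.** -/
theorem ks (hq : 2 < Nat.card {a : E // σ a = a}) (hp1 : ∀ g ∈ Y, ∃ ρ, Pure σ y1 g ρ)
    (hp2 : ∀ g ∈ Y, ∃ ρ, Pure σ y2 g ρ) (n : G)
    (hn : n ∈ normalizer ((P ⊓ KK (AA σ y1) (AA σ y2) : Subgroup G) : Set G)) :
    (∀ x ∈ ⁅UU σ y1, UU σ y1⁆, n * x * n⁻¹ ∈ AA σ y1) ∨ (∀ x ∈ ⁅UU σ y1, UU σ y1⁆, n * x * n⁻¹ ∈ AA σ y2) := by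
  have pd := p.pdata (Or.inl hq)
  have pd' := p.symm.pdata (Or.inl hq)
  set D₁ := (UU σ y1).map (MulAut.conj n).toMonoidHom with hD₁
  set D₂ := (UU σ y2).map (MulAut.conj n).toMonoidHom with hD₂
  have hD1 : D₁ ≤ UU σ y1 ⊔ UU σ y2 := by
    rintro _ ⟨u, hu, rfl⟩
    exact conj_S p C hq hp1 hp2 hn (le_sup_left (b := UU σ y2) hu)
  have hD2 : D₂ ≤ UU σ y1 ⊔ UU σ y2 := by
    rintro _ ⟨u, hu, rfl⟩
    exact conj_S p C hq hp1 hp2 hn (le_sup_right (a := UU σ y1) hu)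
  have hcm : ∀ x ∈ D₁, ∀ y ∈ D₂, x * y = y * x := by
    rintro _ ⟨a, ha, rfl⟩ _ ⟨b, hb, rfl⟩
    rw [← map_mul, C.comm (C.U1A ha) (C.U2A hb), map_mul]
  have hgen : ∀ s ∈ UU σ y1 ⊔ UU σ y2, ∃ x ∈ D₁, ∃ y ∈ D₂, x * y = s := by
    intro s hs
    have h1 : n⁻¹ * s * n ∈ UU σ y1 ⊔ UU σ y2 := by
      have := conj_S p C hq hp1 hp2 (inv_mem hn) hs
      rwa [inv_inv] at this
    obtain ⟨a, ha, b, hb, e⟩ := C.mem_S.1 h1
    refine ⟨_, mem_map_of_mem _ ha, _, mem_map_of_mem _ hb, ?_⟩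
    rw [← map_mul, ← e]
    show n * (n⁻¹ * s * n) * n⁻¹ = s
    group
  have hcomm : ∀ x ∈ ⁅UU σ y1, UU σ y1⁆, n * x * n⁻¹ ∈ ⁅D₁, D₁⁆ := by
    intro x hx
    rw [hD₁, ← map_commutator]
    exact mem_map_of_mem (MulAut.conj n).toMonoidHom hx
  rcases dich pd.prod pd.ind₂ hD1 hD2 hcm (fun b hb => hgen b (le_sup_right (a := UU σ y1) hb)) with h | h
  · left
    intro x hx
    exact C.U1A (comm_le_of_cent C hD1 h (hcomm x hx))
  · have hprod' : Cfsg.IsInternalDirectProduct (UU σ y2) (UU σ y1) (UU σ y1 ⊔ UU σ y2) := by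
      rw [sup_comm]
      exact pd'.prod
    rcases dich hprod' pd'.ind₂ hD1 hD2 hcm (fun b hb => hgen b (le_sup_left (b := UU σ y2) hb)) with h' | h'
    · right
      intro x hx
      have hD1' : D₁ ≤ UU σ y2 ⊔ UU σ y1 := by rw [sup_comm]; exact hD1
      exact C.U2A (comm_le_of_cent C.symm hD1' h' (hcomm x hx))
    · exfalso
      -- `D₂` is central in `U₁U₂`
      have h1 : ∀ x ∈ D₂, ∀ y ∈ D₂, x * y = y * x := by
        intro x hx y hy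
        obtain ⟨a, ha, b, hb, rfl⟩ := C.mem_S.1 (hD2 hy)
        have e1 := mem_centralizer_iff.1 (h' hx) a ha
        have e2 := mem_centralizer_iff.1 (h hx) b hb
        calc x * (a * b) = (x * a) * b := by group
          _ = a * (x * b) := by rw [← e1]; group
          _ = a * b * x := by rw [← e2]; group
      apply not_abelian p.h2
      intro u hu v hv
      have h2 := h1 _ (mem_map_of_mem (MulAut.conj n).toMonoidHom hu) _
        (mem_map_of_mem (MulAut.conj n).toMonoidHom hv)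
      rw [← map_mul, ← map_mul] at h2
      exact (MulAut.conj n).injective h2

include p in
/-- the field `zP` -/
theorem zP (hp1 : ∀ g ∈ Y, ∃ ρ, Pure σ y1 g ρ) (q : G) (hq : q ∈ P) (hq' : q ∈ KK (AA σ y1) (AA σ y2)) :
    q * y1 4 1 = y1 4 1 * q := by
  obtain ⟨u₁, h1, u₂, h2, y, hy, rfl⟩ := C.dec q hq hq'
  obtain ⟨ρ, hρ⟩ := hp1 y hy
  have h0 : y1 4 1 ∈ UU σ y1 := mem_UU (by simp) (ok_one σ _)
  have e1 : u₁ * y1 4 1 = y1 4 1 * u₁ := four_comm p.h1 (map_one σ) h1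
  have e2 : u₂ * y1 4 1 = y1 4 1 * u₂ := (comm12 p (C.U1A h0) (C.U2A h2)).symm
  have e3 : y * y1 4 1 = y1 4 1 * y := by
    have := hρ 4 1 (ok_one σ _)
    rw [map_one, mul_inv_eq_iff_eq_mul] at this
    exact this
  calc u₁ * u₂ * y * y1 4 1 = u₁ * u₂ * (y * y1 4 1) := by group
    _ = u₁ * (u₂ * y1 4 1) * y := by rw [e3]; group
    _ = (u₁ * y1 4 1) * u₂ * y := by rw [e2]; group
    _ = _ := by rw [e1]; group

end Main

section Z

variable {E : Type*} [Field E] [Finite E] {σ : E ≃+* E} {G : Type*} [Group G] {x : ZMod 12 → E → G}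

/-- the field `zU` -/
theorem zU (h : HexTwo σ x) : x 4 1 ∈ ⁅UU σ x, UU σ x⁆ := four_mem h (map_one σ)

/-- the field `z1` -/
theorem z1 (h : HexTwo σ x) : x 4 1 ≠ 1 := fun e => one_ne_zero (h.inj 4 1 (ok_one σ _) e)

/-- the field `zz` -/
theorem zz (h : HexTwo σ x) : x 4 1 * x 4 1 = 1 := by
  rw [← h.add 4 _ _ (ok_one σ _) (ok_one σ _), h.add_self, h.x_zero]

end Z

end IKs

end Cfsg.Agent.HexOut
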