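import Cfsg.Agent.StdRank2.HexSylow

/-!
# The order of `U` is a square, and large (types `G₂(q)`, `³D₄(q)`, `q ≥ 4` even)

`exists_n0`: `|U| = n₀²`; `hc_of`: `2 |Fix σ|² < n₀`.
-/

set_option autoImplicit false
set_option linter.unusedSectionVars false

namespace Cfsg.Agent.HexOut.IZero

open Subgroup Cfsg.Agent.SplitTwo Cfsg.Agent.StdRank2.Hex Cfsg.Agent.StdRank2.Hex.HexTwo

section Field

variable {E : Type*} [Field E]

/-- the degree over the fixed field of an automorphism of order dividing 3 -/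
theorem card_cubic [Finite E] (σ : E ≃+* E) (hcube : ∀ a, σ (σ (σ a)) = a) :
    Nat.card E = Nat.card {a : E // σ a = a} ∨ Nat.card E = Nat.card {a : E // σ a = a} ^ 3 := by
  classical
  by_cases hσ : ∀ a, σ a = a
  · left
    exact Nat.card_congr (Equiv.subtypeUnivEquiv hσ).symm
  · right
    push Not at hσ
    obtain ⟨a0, ha0⟩ := hσ
    let σ' : RingAut E := σ
    have hfin : Finite (RingAut E) := by
      have : Function.Injective (fun f : RingAut E => (f : E → E)) := fun f g h => RingEquiv.ext (congrFun h)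
      exact Finite.of_injective _ this
    have : Fintype (Subgroup.zpowers σ') := Fintype.ofFinite _
    have h1 := FixedPoints.finrank_eq_card (Subgroup.zpowers σ') E
    have ho : orderOf σ' = 3 := by
      refine orderOf_eq_prime ?_ ?_
      · ext a
        exact hcube a
      · intro h
        apply ha0
        have := congrArg (fun f : RingAut E => f a0) h
        exact this
    rw [← Nat.card_eq_fintype_card, Nat.card_zpowers, ho] at h1
    have h2 := Module.natCard_eq_pow_finrank (K := FixedPoints.subfield (Subgroup.zpowers σ') E) (V := E)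
    rw [h1] at h2
    rw [h2]
    congr 1
    refine Nat.card_congr (Equiv.subtypeEquivRight fun a => ?_)
    constructor
    · intro h
      exact h ⟨σ', Subgroup.mem_zpowers σ'⟩
    · rintro h ⟨g, hg⟩
      obtain ⟨k, rfl⟩ := hg
      have h3 : σ' ∈ MulAction.stabilizer (RingAut E) a := h
      have h4 := zpow_mem h3 k
      exact h4

end Field

section

variable {E : Type*} [Field E] [Finite E] {σ : E ≃+* E} {G : Type*} [Group G] {x : ZMod 12 → E → G} (h : HexTwo σ x)

include h

/-- the order of `U` -/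
theorem card_UU : Nat.card ↥(UU σ x) = Nat.card E ^ 3 * Nat.card {a : E // σ a = a} ^ 3 := h.card_U

/-- **the order of `U` is a square** -/
theorem exists_n0 : ∃ n₀, n₀ * n₀ = Nat.card ↥(UU σ x) := by
  rw [card_UU h]
  rcases card_cubic σ h.cube with e | e
  · exact ⟨Nat.card {a : E // σ a = a} ^ 3, by rw [e]⟩
  · exact ⟨Nat.card {a : E // σ a = a} ^ 6, by rw [e]; ring⟩

/-- `|F| ≥ 4` -/
theorem four_le {ω : E} (hω : σ ω = ω) (h0 : ω ≠ 0) (h1 : ω ≠ 1) : 4 ≤ Nat.card {a : E // σ a = a} := by
  obtain ⟨n, hn, hc⟩ := h.exists_card_fix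
  have h3 : 3 ≤ Nat.card {a : E // σ a = a} := by
    have : Function.Injective (![⟨0, map_zero σ⟩, ⟨1, map_one σ⟩, ⟨ω, hω⟩] : Fin 3 → {a : E // σ a = a}) := by
      intro i j hij
      fin_cases i <;> fin_cases j <;> simp_all [Subtype.ext_iff]
    have := Nat.card_le_card_of_injective _ this
    rwa [Nat.card_eq_fintype_card, Fintype.card_fin] at this
  rw [hc] at h3 ⊢
  have : 2 ≤ n := by
    by_contra hlt
    have : n = 1 := by omega
    subst this
    omega
  calc 4 = 2 ^ 2 := by norm_num
    _ ≤ 2 ^ n := Nat.pow_le_pow_right (by norm_num) this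

theorem hc_of {ω : E} (hω : σ ω = ω) (h0 : ω ≠ 0) (h1 : ω ≠ 1) {n₀ : ℕ} (hn : n₀ * n₀ = Nat.card ↥(UU σ x)) :
    2 * Nat.card {a : E // σ a = a} ^ 2 < n₀ := by
  have h4 := four_le h hω h0 h1
  rw [card_UU h] at hn
  set q := Nat.card {a : E // σ a = a} with hq
  have h5 : q ≤ Nat.card E := Nat.card_le_card_of_injective _ (Subtype.val_injective (p := fun a : E => σ a = a))
  have h6 : q ^ 3 * q ^ 3 ≤ n₀ * n₀ := by
    rw [hn]
    exact Nat.mul_le_mul_right _ (Nat.pow_le_pow_left h5 3)
  have h7 : q ^ 3 ≤ n₀ := Nat.mul_self_le_mul_self_iff.mp h6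
  have h8 : 0 < q ^ 2 := by positivity
  calc 2 * q ^ 2 < 4 * q ^ 2 := by omega
    _ ≤ q * q ^ 2 := Nat.mul_le_mul_right _ h4
    _ = q ^ 3 := by ring
    _ ≤ n₀ := h7

end

end Cfsg.Agent.HexOut.IZero
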