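import Cfsg.Agent.StdRank2.HexLift
import Cfsg.Agent.StdSpFour.Lift
import Cfsg.Agent.WreathFusion.HexPair

/-!
# S1778, types `G₂(q)`, `³D₄(q)`: lifting hexagonal systems from `X = N_G(O)/O` to `G`

`π : N →* X` with kernel of odd order, `C = C_N(ker π)`: a hexagonal system of `X` with values in `π(C)` lifts to a
unique hexagonal system of `N` consisting of involutions of `C`.

* abstract form: `exists_lift_hex`, `eq_of_map`, `conj_lift`;
* `LiftOf A t σ y z` for `pr A t : N_G(O) →* N_G(O)/O`: `z : ZMod 12 → E → G` lifts `y`; `exists_liftOf`,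
  `LiftOf.uniq`, `LiftOf.conj`, `LiftOf.im_gen`, `LiftOf.pair`, `LiftOf.mul_eq`.
-/

set_option autoImplicit false
set_option linter.unusedSectionVars false

namespace Cfsg.Agent.HexOut.Lift

open Subgroup Cfsg.Agent.StdRank2.Hex Cfsg.Agent.StdRank2.FrameLift
open Cfsg.Agent.StdSpFour.Lift (C Two unique conj_mem_C)

/-! ### Abstract form -/

section abstract_

variable {N X : Type*} [Group N] [Finite N] [Group X] (π : N →* X) (hk : Odd (Nat.card π.ker))
  {E : Type*} [Field E] [Finite E] {σ : E ≃+* E} {y : ZMod 12 → E → X}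

/-- `C → π(C)` -/
def resC : ↥(C π) →* ↥((C π).map π) := π.subgroupMap (C π)

theorem coe_resC (c : ↥(C π)) : ((resC π c : ↥((C π).map π)) : X) = π c := rfl

include hk in
theorem oddCover : OddCover (resC π) := by
  have hker : (resC π).ker = π.ker.subgroupOf (C π) := by
    ext x
    rw [MonoidHom.mem_ker, mem_subgroupOf, MonoidHom.mem_ker]
    exact ⟨fun h => congrArg Subtype.val h, fun h => Subtype.ext h⟩
  refine OddCover.of_card (π.subgroupMap_surjective (C π)) ?_ ?_
  · intro z hz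
    rw [hker, mem_subgroupOf] at hz
    rw [mem_center_iff]
    intro c
    exact Subtype.ext ((mem_centralizer_iff.1 c.2) _ hz).symm
  · rw [hker]
    have h2 : Nat.card (π.ker.subgroupOf (C π)) ∣ Nat.card π.ker := by
      rw [← Subgroup.card_map_of_injective (C π).subtype_injective, subgroupOf_map_subtype]
      exact Subgroup.card_dvd_of_le inf_le_left
    exact Odd.of_dvd_nat hk h2

include hk

/-- **The lift of a hexagonal system.** -/
theorem exists_lift_hex (h : HexTwo σ y) (hy : ∀ k a, Ok σ k a → y k a ∈ (C π).map π) :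
    ∃ z : ZMod 12 → E → N, (∀ k a, Ok σ k a → π (z k a) = y k a) ∧ (∀ k a, z k a ∈ C π) ∧
      (∀ k a, z k a * z k a = 1) ∧ HexTwo σ z := by
  classical
  let y' : ZMod 12 → E → ↥((C π).map π) := fun k a => if ha : Ok σ k a then ⟨y k a, hy k a ha⟩ else 1
  have hy' : ∀ k a, Ok σ k a → y k a = ((C π).map π).subtype (y' k a) := by
    intro k a ha
    show _ = ((y' k a : ↥((C π).map π)) : X)
    rw [show y' k a = ⟨y k a, hy k a ha⟩ from dif_pos ha]
  have h' : HexTwo σ y' := h.comap ((C π).map π).subtype ((C π).map π).subtype_injective hy'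
  have c := oddCover π hk
  have h1 := lift_hexTwo c h'
  have h2 := h1.map (y := fun k a => if Ok σ k a then ((liftX (resC π) y' k a : ↥(C π)) : N) else 1) (C π).subtype
    (C π).subtype_injective fun k a ha => if_pos ha
  refine ⟨_, ?_, ?_, ?_, h2⟩
  · intro k a ha
    show π (if Ok σ k a then ((liftX (resC π) y' k a : ↥(C π)) : N) else 1) = y k a
    rw [if_pos ha, hy' k a ha]
    exact congrArg Subtype.val (map_liftX c h' ha)
  · intro k a
    show (if Ok σ k a then ((liftX (resC π) y' k a : ↥(C π)) : N) else 1) ∈ C π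
    split_ifs
    · exact (liftX (resC π) y' k a).2
    · exact one_mem _
  · intro k a
    by_cases ha : Ok σ k a
    · exact h2.x_sq ha
    · show (if Ok σ k a then ((liftX (resC π) y' k a : ↥(C π)) : N) else 1) *
        (if Ok σ k a then ((liftX (resC π) y' k a : ↥(C π)) : N) else 1) = 1
      rw [if_neg ha, one_mul]

end abstract_

/-! ### The version for `N_G(O) → N_G(O)/O` -/

open Cfsg Cfsg.Agent.StdEven.CoreQuot Cfsg.Agent.StdSpFour.Lift

section core

variable {G : Type*} [Group G] {A : Subgroup G} {t : G} {T : Subgroup G} {E : Type*} [Field E]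
  {σ : E ≃+* E}

/-- `z` is the lift of `y`. -/
structure LiftOf (A : Subgroup G) (t : G) (σ : E ≃+* E) (y : ZMod 12 → E → XQ A t) (z : ZMod 12 → E → G) : Prop where
  mem : ∀ k a, z k a ∈ NO A t
  map : ∀ k a, Ok σ k a → pr A t ⟨z k a, mem k a⟩ = y k a
  cen : ∀ k a, ∀ o ∈ core A t, o * z k a = z k a * o
  sq : ∀ k a, z k a * z k a = 1
  hex : HexTwo σ z

theorem two_of_sq {x : G} (h : x * x = 1) : Two x := ⟨1, by rw [pow_one, pow_two, h]⟩

/-- **Existence.** -/
theorem exists_liftOf [Finite G] [Finite E] (H : Hyp A t T) {y : ZMod 12 → E → XQ A t} (h : HexTwo σ y)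
    (hy : ∀ k a, Ok σ k a → y k a ∈ Cb A t) : ∃ z : ZMod 12 → E → G, LiftOf A t σ y z := by
  obtain ⟨z, h1, h2, h3, h4⟩ := exists_lift_hex (pr A t) H.odd_ker h fun k a ha => hy k a ha
  refine ⟨fun k a => (z k a : G), fun k a => (z k a).2, fun k a ha => h1 k a ha, fun k a => mem_C.1 (h2 k a),
    fun k a => congrArg Subtype.val (h3 k a), h4.map (NO A t).subtype (NO A t).subtype_injective fun _ _ _ => rfl⟩

namespace LiftOf

variable {y : ZMod 12 → E → XQ A t} {z : ZMod 12 → E → G} (L : LiftOf A t σ y z)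
include L

theorem mem_C (k : ZMod 12) (a : E) : (⟨z k a, L.mem k a⟩ : ↥(NO A t)) ∈ C (pr A t) := by
  rw [C, mem_centralizer_iff]
  intro o ho
  exact Subtype.ext (L.cen k a o (pr_eq_one.1 ho))

theorem gen_le_NO (S : Set (ZMod 12)) : gen σ z S ≤ NO A t := gen_le fun k _ a _ => L.mem k a

theorem gen_cen {S : Set (ZMod 12)} {g : G} (hg : g ∈ gen σ z S) : ∀ o ∈ core A t, o * g = g * o := by
  have h1 : gen σ z S ≤ centralizer (core A t : Set G) := gen_le fun k _ a _ =>
    mem_centralizer_iff.2 fun o ho => L.cen k a o ho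
  exact fun o ho => mem_centralizer_iff.1 (h1 hg) o ho

/-- The image of the lifted groups. -/
theorem im_gen (S : Set (ZMod 12)) : im A t (gen σ z S) = gen σ y S := by
  have e1 : gen σ z S = (gen σ (fun k a => (⟨z k a, L.mem k a⟩ : ↥(NO A t))) S).map (NO A t).subtype :=
    map_gen (x := fun k a => (⟨z k a, L.mem k a⟩ : ↥(NO A t))) (NO A t).subtype (fun _ _ _ => rfl) S
  have e2 : gen σ y S = (gen σ (fun k a => (⟨z k a, L.mem k a⟩ : ↥(NO A t))) S).map (pr A t) :=
    map_gen (x := fun k a => (⟨z k a, L.mem k a⟩ : ↥(NO A t))) (pr A t) (fun k a ha => (L.map k a ha).symm) S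
  have e3 : (gen σ z S).subgroupOf (NO A t) = gen σ (fun k a => (⟨z k a, L.mem k a⟩ : ↥(NO A t))) S := by
    rw [e1, subgroupOf]
    exact comap_map_eq_self_of_injective (NO A t).subtype_injective _
  rw [e2, ← e3]
  rfl

variable [Finite G] (H : Hyp A t T)
include H

/-- A 2-element with the image `y k a` is `z k a`. -/
theorem uniq {k : ZMod 12} {a : E} (ha : Ok σ k a) (n : ↥(NO A t)) (hn : Two (n : G)) (h : pr A t n = y k a) :
    (n : G) = z k a := by
  obtain ⟨m, hm⟩ := hn
  have h1 : (⟨z k a, L.mem k a⟩ : ↥(NO A t)) = n :=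
    unique (pr A t) H.odd_ker (L.mem_C k a) ⟨1, Subtype.ext (by
      show z k a ^ 2 ^ 1 = 1
      rw [pow_one, pow_two]; exact L.sq k a)⟩ ⟨m, Subtype.ext hm⟩ ((L.map k a ha).trans h.symm)
  rw [← h1]

/-- Conjugation relations lift. -/
theorem conj {y' : ZMod 12 → E → XQ A t} {z' : ZMod 12 → E → G} (L' : LiftOf A t σ y' z') {k l : ZMod 12} {a b : E}
    (ha : Ok σ k a) (hb : Ok σ l b) (g : ↥(NO A t)) (h : pr A t g * y k a * (pr A t g)⁻¹ = y' l b) :
    (g : G) * z k a * (g : G)⁻¹ = z' l b := by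
  refine L'.uniq H hb (g * ⟨z k a, L.mem k a⟩ * g⁻¹) ?_ ?_
  · refine two_of_sq ?_
    show (g : G) * z k a * (g : G)⁻¹ * ((g : G) * z k a * (g : G)⁻¹) = 1
    have e1 : (g : G) * z k a * (g : G)⁻¹ * ((g : G) * z k a * (g : G)⁻¹) = g * (z k a * z k a) * (g : G)⁻¹ := by group
    rw [e1, L.sq]; group
  · rw [map_mul, map_mul, map_inv, L.map k a ha]
    exact h

/-- Elements of the image commuting with the system. -/
theorem comm {k : ZMod 12} {a : E} (ha : Ok σ k a) (g : ↥(NO A t)) (h : pr A t g * y k a = y k a * pr A t g) :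
    (g : G) * z k a = z k a * g := by
  have h1 := L.conj H L ha ha g (by rw [h]; group)
  rw [mul_inv_eq_iff_eq_mul] at h1
  exact h1

/-- Commuting systems lift to commuting systems. -/
theorem pair {y' : ZMod 12 → E → XQ A t} {z' : ZMod 12 → E → G} (L' : LiftOf A t σ y' z')
    (p : Cfsg.Agent.WreathFusion.HexPair.IsPair σ y y') : Cfsg.Agent.WreathFusion.HexPair.IsPair σ z z' := by
  refine ⟨L.hex, L'.hex, fun k l a b ha hb => ?_⟩
  refine L'.comm H hb ⟨z k a, L.mem k a⟩ ?_
  rw [L.map k a ha]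
  exact p.comm k l a b ha hb

/-- Products lift to products: `x` a 2-element of `N_G(O)` with image `y k a * y' l b`, where `y k a` and `y' l b`
commute. -/
theorem mul_eq {y' : ZMod 12 → E → XQ A t} {z' : ZMod 12 → E → G} (L' : LiftOf A t σ y' z') {k l : ZMod 12}
    {a b : E} (ha : Ok σ k a) (hb : Ok σ l b) (hc : y k a * y' l b = y' l b * y k a) (n : ↥(NO A t))
    (hn : Two (n : G)) (h : pr A t n = y k a * y' l b) : (n : G) = z k a * z' l b := by
  have hc' : z k a * z' l b = z' l b * z k a := L'.comm H hb ⟨z k a, L.mem k a⟩ (by rw [L.map k a ha]; exact hc)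
  obtain ⟨m, hm⟩ := hn
  have h1 : (⟨z k a, L.mem k a⟩ * ⟨z' l b, L'.mem l b⟩ : ↥(NO A t)) = n := by
    refine unique (pr A t) H.odd_ker (mul_mem (L.mem_C k a) (L'.mem_C l b)) ⟨1, Subtype.ext ?_⟩ ⟨m, Subtype.ext hm⟩ ?_
    · show (z k a * z' l b) ^ 2 ^ 1 = 1
      rw [pow_one, pow_two]
      calc z k a * z' l b * (z k a * z' l b) = z k a * (z' l b * z k a) * z' l b := by group
        _ = z k a * (z k a * z' l b) * z' l b := by rw [hc']
        _ = (z k a * z k a) * (z' l b * z' l b) := by group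
        _ = 1 := by rw [L.sq, L'.sq, one_mul]
    · rw [map_mul, L.map k a ha, L'.map l b hb, h]
  rw [← h1]
  rfl

/-- Elements of the lifted group with trivial image are trivial if they are 2-elements. -/
theorem eq_one_of_map {n : ↥(NO A t)} (hn : Two (n : G)) (h : pr A t n = 1) : (n : G) = 1 := by
  obtain ⟨m, hm⟩ := hn
  exact congrArg Subtype.val (Cfsg.Agent.StdSpFour.Lift.eq_one_of_ker (pr A t) H.odd_ker
    (x := n) (MonoidHom.mem_ker.2 h) ⟨m, Subtype.ext hm⟩)

end LiftOf

end core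

end Cfsg.Agent.HexOut.Lift
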