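import Mathlib

/-!
# Tools on 2-groups
-/

set_option autoImplicit false

namespace Cfsg.Agent.HexOut

open Subgroup

variable {G : Type*} [Group G]

theorem isPGroup_zpowers {x : G} {k : ℕ} (hk : x ^ 2 ^ k = 1) : IsPGroup 2 (zpowers x) := by
  rintro ⟨y, hy⟩
  obtain ⟨i, rfl⟩ := mem_zpowers_iff.mp hy
  refine ⟨k, Subtype.ext ?_⟩
  show (x ^ i) ^ 2 ^ k = 1
  rw [← zpow_natCast, ← zpow_mul, mul_comm, zpow_mul, zpow_natCast, hk, one_zpow]

theorem isPGroup_zpowers_of_sq {x : G} (hx : x * x = 1) : IsPGroup 2 (zpowers x) :=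
  isPGroup_zpowers (k := 1) (by rw [pow_one, pow_two, hx])

/-- a 2-group normalising a non-trivial 2-group centralises a non-trivial element -/
theorem exists_central [Finite G] {Q R : Subgroup G} (hQ : IsPGroup 2 Q) (hR : IsPGroup 2 R)
    (hn : ∀ q ∈ Q, ∀ r ∈ R, q * r * q⁻¹ ∈ R) (hne : R ≠ ⊥) : ∃ z ∈ R, z ≠ 1 ∧ ∀ q ∈ Q, q * z = z * q := by
  have : Fact (Nat.Prime 2) := ⟨Nat.prime_two⟩
  let act : MulAction Q R :=
    { smul := fun q r => ⟨q * r * q⁻¹, hn q q.2 r r.2⟩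
      one_smul := fun r => Subtype.ext (by show ((1 : Q) : G) * r * ((1 : Q) : G)⁻¹ = r; simp)
      mul_smul := fun a b r => Subtype.ext (by
        show ((a * b : Q) : G) * r * ((a * b : Q) : G)⁻¹ = a * (b * r * (b : G)⁻¹) * (a : G)⁻¹
        rw [Subgroup.coe_mul]
        group) }
  have hdvd : 2 ∣ Nat.card R := by
    have : Nontrivial R := (Subgroup.nontrivial_iff_ne_bot _).2 hne
    obtain ⟨n, hn⟩ := IsPGroup.iff_card.1 hR
    rw [hn]
    apply dvd_pow_self
    rintro rfl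
    rw [pow_zero] at hn
    have := Finite.one_lt_card (α := R)
    omega
  have h1 : (1 : R) ∈ MulAction.fixedPoints Q R := fun q => Subtype.ext (by
    show (q : G) * ((1 : R) : G) * (q : G)⁻¹ = ((1 : R) : G)
    simp)
  obtain ⟨z, hz, hne'⟩ := hQ.exists_fixed_point_of_prime_dvd_card_of_fixed_point R hdvd h1
  refine ⟨z, z.2, fun e => hne' (Subtype.ext e.symm), fun q hq => ?_⟩
  have h2 : (q : G) * z * q⁻¹ = z := congrArg Subtype.val (hz ⟨q, hq⟩)
  calc q * z = (q * z * q⁻¹) * q := by group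
    _ = z * q := by rw [h2]

end Cfsg.Agent.HexOut
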