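import Cfsg.Agent.HexOut.Swap
import Cfsg.Agent.HexOut.Tools
import Cfsg.Agent.StdEven.Syl

/-!
# The normaliser of `D = A₁ A₂`
-/

set_option autoImplicit false
set_option linter.unusedSectionVars false

namespace Cfsg.Agent.HexOut

open Subgroup Cfsg.Agent.StdEven.Syl
open scoped commutatorElement

variable {G : Type*} [Group G]

/-- `y` centralises `B` -/
def Cn (y : G) (B : Subgroup G) : Prop := ∀ a ∈ B, y * a = a * y

theorem Cn.mul {y y' : G} {B : Subgroup G} (h : Cn y B) (h' : Cn y' B) : Cn (y * y') B := fun a ha => by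
  calc y * y' * a = y * (y' * a) := by group
    _ = y * (a * y') := by rw [h' a ha]
    _ = (y * a) * y' := by group
    _ = a * (y * y') := by rw [h a ha]; group

theorem Cn.inv {y : G} {B : Subgroup G} (h : Cn y B) : Cn y⁻¹ B := fun a ha => by
  calc y⁻¹ * a = y⁻¹ * (a * y) * y⁻¹ := by group
    _ = y⁻¹ * (y * a) * y⁻¹ := by rw [h a ha]
    _ = a * y⁻¹ := by group

theorem cn_iff {y : G} {B : Subgroup G} : Cn y B ↔ ∀ a ∈ B, y * a * y⁻¹ = a := by
  refine ⟨fun h a ha => by rw [h a ha]; group, fun h a ha => ?_⟩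
  calc y * a = (y * a * y⁻¹) * y := by group
    _ = a * y := by rw [h a ha]

/-- the elements normalising both factors -/
def KK (A₁ A₂ : Subgroup G) : Subgroup G := normalizer (A₁ : Set G) ⊓ normalizer (A₂ : Set G)

/-- the normaliser of `D` -/
def MM (A₁ A₂ : Subgroup G) : Subgroup G := normalizer ((A₁ ⊔ A₂ : Subgroup G) : Set G)

section

variable {A₁ A₂ : Subgroup G}

theorem keeps_of_mem {m : G} (h : m ∈ KK A₁ A₂) : Keeps A₁ A₂ m :=
  ⟨fun _ ha => conj_mem_of_mem_normalizer (mem_inf.1 h).1 ha, fun _ ha => conj_mem_of_mem_normalizer (mem_inf.1 h).2 ha⟩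

theorem mem_KK [Finite G] {m : G} : m ∈ KK A₁ A₂ ↔ Keeps A₁ A₂ m :=
  ⟨keeps_of_mem, fun h => mem_inf.2 ⟨mem_normalizer_of_conj_le h.1, mem_normalizer_of_conj_le h.2⟩⟩

theorem mem_MM [Finite G] {m : G} : m ∈ MM A₁ A₂ ↔ ∀ d ∈ A₁ ⊔ A₂, m * d * m⁻¹ ∈ A₁ ⊔ A₂ :=
  ⟨fun h _ hd => conj_mem_of_mem_normalizer h hd, mem_normalizer_of_conj_le⟩

theorem conj_sup_mem {m : G} {B C : Subgroup G} (h₁ : ∀ a ∈ A₁, m * a * m⁻¹ ∈ B) (h₂ : ∀ a ∈ A₂, m * a * m⁻¹ ∈ C) :
    ∀ d ∈ A₁ ⊔ A₂, m * d * m⁻¹ ∈ B ⊔ C := by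
  have h : A₁ ⊔ A₂ ≤ (B ⊔ C).comap (MulAut.conj m).toMonoidHom :=
    sup_le (fun a ha => le_sup_left (b := C) (h₁ a ha)) (fun a ha => le_sup_right (a := B) (h₂ a ha))
  exact fun d hd => h hd

theorem MM_of_swaps [Finite G] {m : G} (h : Swaps A₁ A₂ m) : m ∈ MM A₁ A₂ := by
  rw [mem_MM]
  intro d hd
  have := conj_sup_mem h.1 h.2 d hd
  rwa [sup_comm] at this

theorem KK_le_MM [Finite G] : KK A₁ A₂ ≤ MM A₁ A₂ := fun m hm => by
  rw [mem_MM]
  exact conj_sup_mem (keeps_of_mem hm).1 (keeps_of_mem hm).2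

theorem swaps_mul_keeps {m k : G} (hm : Swaps A₁ A₂ m) (hk : Keeps A₁ A₂ k) : Swaps A₁ A₂ (m * k) :=
  ⟨fun a ha => by
    have := hm.1 _ (hk.1 a ha)
    have e : m * k * a * (m * k)⁻¹ = m * (k * a * k⁻¹) * m⁻¹ := by group
    rw [e]; exact this, fun a ha => by
    have := hm.2 _ (hk.2 a ha)
    have e : m * k * a * (m * k)⁻¹ = m * (k * a * k⁻¹) * m⁻¹ := by group
    rw [e]; exact this⟩

theorem keeps_mul_swaps {m k : G} (hk : Keeps A₁ A₂ k) (hm : Swaps A₁ A₂ m) : Swaps A₁ A₂ (k * m) :=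
  ⟨fun a ha => by
    have := hk.2 _ (hm.1 a ha)
    have e : k * m * a * (k * m)⁻¹ = k * (m * a * m⁻¹) * k⁻¹ := by group
    rw [e]; exact this, fun a ha => by
    have := hk.1 _ (hm.2 a ha)
    have e : k * m * a * (k * m)⁻¹ = k * (m * a * m⁻¹) * k⁻¹ := by group
    rw [e]; exact this⟩

theorem swaps_mul_swaps {m k : G} (hk : Swaps A₁ A₂ k) (hm : Swaps A₁ A₂ m) : Keeps A₁ A₂ (k * m) :=
  ⟨fun a ha => by
    have := hk.2 _ (hm.1 a ha)
    have e : k * m * a * (k * m)⁻¹ = k * (m * a * m⁻¹) * k⁻¹ := by group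
    rw [e]; exact this, fun a ha => by
    have := hk.1 _ (hm.2 a ha)
    have e : k * m * a * (k * m)⁻¹ = k * (m * a * m⁻¹) * k⁻¹ := by group
    rw [e]; exact this⟩

end

namespace Wr

variable {A A₁ A₂ : Subgroup G} {t : G} (w : Wr A A₁ A₂ t)

include w

theorem not_both {m : G} (h : Keeps A₁ A₂ m) (h' : Swaps A₁ A₂ m) : False := by
  apply w.ne
  rw [eq_bot_iff]
  intro a ha
  have h1 := w.inf _ (h.1 a ha) (h'.1 a ha)
  rw [mem_bot]
  calc a = m⁻¹ * (m * a * m⁻¹) * m := by group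
    _ = 1 := by rw [h1]; group

variable [Finite G]

theorem KK_or {m : G} (hm : m ∈ MM A₁ A₂) : m ∈ KK A₁ A₂ ∨ Swaps A₁ A₂ m := by
  rw [mem_KK]
  exact w.keeps_or (mem_MM.1 hm)

theorem t_MM : t ∈ MM A₁ A₂ := MM_of_swaps w.sw

theorem t_not_KK : t ∉ KK A₁ A₂ := fun h => w.not_both (keeps_of_mem h) w.sw

theorem KK_normal {m k : G} (hm : m ∈ MM A₁ A₂) (hk : k ∈ KK A₁ A₂) : m * k * m⁻¹ ∈ KK A₁ A₂ := by
  rcases w.KK_or hm with h | h
  · exact mul_mem (mul_mem h hk) (inv_mem h)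
  · rcases w.KK_or (mul_mem (mul_mem hm (KK_le_MM hk)) (inv_mem hm)) with h1 | h1
    · exact h1
    · exfalso
      have h2 := swaps_mul_swaps h1 h
      have e : m * k * m⁻¹ * m = m * k := by group
      rw [e] at h2
      exact w.not_both h2 (swaps_mul_keeps h (keeps_of_mem hk))

theorem MM_le_normalizer_KK : MM A₁ A₂ ≤ normalizer ((KK A₁ A₂ : Subgroup G) : Set G) := fun m hm => by
  apply mem_normalizer_of_conj_le
  intro k hk
  exact w.KK_normal hm hk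

/-- the swap lemma for `MM` -/
theorem mem_MM_of_swaps {g : G} (hs : Swaps A₁ A₂ (g * t * g⁻¹)) : g ∈ MM A₁ A₂ :=
  mem_MM.2 (w.mem_of_swap hs)

theorem cent_t_le {c : G} (hc : c * t = t * c) : c ∈ MM A₁ A₂ := by
  apply w.mem_MM_of_swaps
  have : c * t * c⁻¹ = t := by rw [hc]; group
  rw [this]; exact w.sw

theorem D_le_KK : A₁ ⊔ A₂ ≤ KK A₁ A₂ := by
  intro d hd
  rw [mem_KK]
  obtain ⟨a, ha, b, hb, rfl⟩ := w.mem_D.1 hd
  refine ⟨fun c hc => ?_, fun c hc => ?_⟩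
  · have : a * b * c * (a * b)⁻¹ = a * c * a⁻¹ := by
      calc a * b * c * (a * b)⁻¹ = a * (b * c) * b⁻¹ * a⁻¹ := by group
        _ = a * (c * b) * b⁻¹ * a⁻¹ := by rw [w.comm c hc b hb]
        _ = a * c * a⁻¹ := by group
    rw [this]
    exact mul_mem (mul_mem ha hc) (inv_mem ha)
  · have h3 := mul_mem (mul_mem hb hc) (inv_mem hb)
    have : a * b * c * (a * b)⁻¹ = b * c * b⁻¹ := by
      calc a * b * c * (a * b)⁻¹ = a * (b * c * b⁻¹) * a⁻¹ := by group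
        _ = (b * c * b⁻¹) * a * a⁻¹ := by rw [w.comm a ha _ h3]
        _ = b * c * b⁻¹ := by group
    rw [this]; exact h3

/-- 2-elements centralising `D` are trivial -/
theorem cent_D_two (hcen : ∀ x, (∀ a ∈ A, x * a = a * x) → x * t = t * x → (∃ k : ℕ, x ^ 2 ^ k = 1) → x = 1 ∨ x = t)
    {x : G} (hx : Cn x (A₁ ⊔ A₂)) {k : ℕ} (hk : x ^ 2 ^ k = 1) : x = 1 := by
  have : Fact (Nat.Prime 2) := ⟨Nat.prime_two⟩
  set C : Subgroup G := centralizer ((A₁ ⊔ A₂ : Subgroup G) : Set G) with hC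
  have hxC : x ∈ C := mem_centralizer_iff.2 fun a ha => (hx a ha).symm
  have hMC : MM A₁ A₂ ≤ normalizer (C : Set G) := fun m hm => by
    apply mem_normalizer_of_conj_le
    intro c hc
    rw [hC, mem_centralizer_iff]
    intro d hd
    have h1 : m⁻¹ * d * m ∈ A₁ ⊔ A₂ := conj_inv_mem_of_mem_normalizer hm hd
    have h2 := mem_centralizer_iff.1 hc _ h1
    calc d * (m * c * m⁻¹) = m * ((m⁻¹ * d * m) * c) * m⁻¹ := by group
      _ = m * (c * (m⁻¹ * d * m)) * m⁻¹ := by rw [h2]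
      _ = m * c * m⁻¹ * d := by group
  have hCM : C ≤ MM A₁ A₂ := by
    intro c hc
    rw [mem_MM]
    intro d hd
    have h2 := mem_centralizer_iff.1 hc d hd
    have : c * d * c⁻¹ = d := by rw [← h2]; group
    rw [this]; exact hd
  have ht2 : IsPGroup 2 (zpowers t) := isPGroup_zpowers_of_sq w.tt
  obtain ⟨Q, hQ, htQ⟩ := exists_isSyl ht2 (zpowers_le.2 w.t_MM)
  have htQ' : t ∈ Q := htQ (mem_zpowers t)
  have hQC := hQ.inf_normal hCM hMC
  have hx2 : IsPGroup 2 (zpowers x) := isPGroup_zpowers hk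
  obtain ⟨n, -, hn⟩ := hQC.exists_conj hx2 (zpowers_le.2 hxC)
  -- `Q ⊓ C` is a normal subgroup of `Q`
  have hbot : Q ⊓ C = ⊥ := by
    by_contra hne
    obtain ⟨z, hz, hz1, hzQ⟩ := exists_central hQ.two (hQ.two.to_le inf_le_left) (fun q hq r hr =>
      mem_inf.2 ⟨mul_mem (mul_mem hq (mem_inf.1 hr).1) (inv_mem hq),
        conj_mem_of_mem_normalizer (hMC (hQ.le hq)) (mem_inf.1 hr).2⟩) hne
    have hzC := (mem_inf.1 hz).2
    obtain ⟨l, hl⟩ := hQ.two ⟨z, (mem_inf.1 hz).1⟩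
    rcases hcen z (fun a ha => (mem_centralizer_iff.1 hzC a (w.A_le ha)).symm) (hzQ t htQ').symm
      ⟨l, congrArg Subtype.val hl⟩ with h | h
    · exact hz1 h
    · apply w.not_both (keeps_of_mem (_ : t ∈ KK A₁ A₂)) w.sw
      rw [← h, mem_KK]
      refine ⟨fun a ha => ?_, fun a ha => ?_⟩
      · have h2 := mem_centralizer_iff.1 hzC a (le_sup_left (b := A₂) ha)
        have : z * a * z⁻¹ = a := by rw [← h2]; group
        rw [this]; exact ha
      · have h2 := mem_centralizer_iff.1 hzC a (le_sup_right (a := A₁) ha)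
        have : z * a * z⁻¹ = a := by rw [← h2]; group
        rw [this]; exact ha
  have h1 : n * x * n⁻¹ ∈ Q ⊓ C := hn x (mem_zpowers x)
  rw [hbot, mem_bot] at h1
  calc x = n⁻¹ * (n * x * n⁻¹) * n := by group
    _ = 1 := by rw [h1]; group

end Wr

end Cfsg.Agent.HexOut
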