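import Cfsg.Agent.HexOut.Wreath

/-!
# The swap lemma: `g t g⁻¹ ∈ N_G(D)` swapping the factors implies `g ∈ N_G(D)`
-/

set_option autoImplicit false

namespace Cfsg.Agent.HexOut

open Subgroup
open scoped commutatorElement

variable {G : Type*} [Group G]

namespace Wr

variable {A A₁ A₂ : Subgroup G} {t : G} (w : Wr A A₁ A₂ t)

include w

theorem perf' : ⁅(⊤ : Subgroup A₁), (⊤ : Subgroup A₁)⁆ = ⊤ := by
  apply Subgroup.map_injective A₁.subtype_injective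
  rw [map_commutator, ← MonoidHom.range_eq_map, range_subtype]
  exact le_antisymm (commutator_le_self _) w.perf

theorem inv' : closure {x : A₁ | x * x = 1} = ⊤ := by
  apply Subgroup.map_injective A₁.subtype_injective
  rw [MonoidHom.map_closure, ← MonoidHom.range_eq_map, range_subtype]
  apply le_antisymm
  · rw [closure_le]
    rintro _ ⟨x, -, rfl⟩
    exact x.2
  · refine w.inv.trans ?_
    apply Subgroup.closure_mono
    rintro x ⟨hx, hxx⟩
    exact ⟨⟨x, hx⟩, Subtype.ext hxx, rfl⟩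

/-- the diagonal embedding with respect to a swapping element `m` -/
def dg {m : G} (hm : Swaps A₁ A₂ m) : A₁ →* G where
  toFun a := a * (m * a * m⁻¹)
  map_one' := by simp
  map_mul' a b := by
    have h1 := w.comm b b.2 (m * a * m⁻¹) (hm.1 a a.2)
    simp only [Subgroup.coe_mul]
    calc (a : G) * b * (m * (a * b) * m⁻¹) = a * (b * (m * a * m⁻¹)) * (m * b * m⁻¹) := by group
      _ = a * ((m * a * m⁻¹) * b) * (m * b * m⁻¹) := by rw [h1]
      _ = a * (m * a * m⁻¹) * (b * (m * b * m⁻¹)) := by group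

theorem dg_apply {m : G} (hm : Swaps A₁ A₂ m) (a : A₁) : w.dg hm a = a * (m * a * m⁻¹) := rfl

theorem dg_inj {m : G} (hm : Swaps A₁ A₂ m) : Function.Injective (w.dg hm) := by
  intro a b h
  exact Subtype.ext (w.uniq a.2 b.2 (hm.1 a a.2) (hm.1 b b.2) h).1

theorem perf_dg {m : G} (hm : Swaps A₁ A₂ m) : ⁅(w.dg hm).range, (w.dg hm).range⁆ = (w.dg hm).range := by
  rw [MonoidHom.range_eq_map, ← map_commutator, w.perf']

theorem gen_dg {m : G} (hm : Swaps A₁ A₂ m) :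
    (w.dg hm).range ≤ closure {x | x ∈ (w.dg hm).range ∧ ∃ k : ℕ, x ^ 2 ^ k = 1} := by
  conv_lhs => rw [MonoidHom.range_eq_map, ← w.inv', MonoidHom.map_closure]
  apply Subgroup.closure_mono
  rintro _ ⟨x, hx, rfl⟩
  refine ⟨⟨x, rfl⟩, 1, ?_⟩
  rw [← map_pow, pow_one, pow_two, hx, map_one]

/-- the component of `C(g t g⁻¹)` is the diagonal with respect to `g t g⁻¹` -/
theorem conj_A [Finite G] {g : G} (hs : Swaps A₁ A₂ (g * t * g⁻¹)) (ht' : (g * t * g⁻¹) * (g * t * g⁻¹) = 1) :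
    ∀ a ∈ A, g * a * g⁻¹ ∈ (w.dg hs).range := by
  set m := g * t * g⁻¹ with hm
  set B := (w.dg hs).range with hB
  have hBm : ∀ x ∈ B, x * m = m * x := by
    rintro _ ⟨a, rfl⟩
    rw [dg_apply]
    have hmi : m⁻¹ = m := inv_eq_of_mul_eq_one_right ht'
    have h1 := w.comm a a.2 (m * a * m⁻¹) (hs.1 a a.2)
    calc (a : G) * (m * a * m⁻¹) * m = a * m * a := by group
      _ = m * (m⁻¹ * a * m) * a := by group
      _ = m * ((m * a * m⁻¹) * a) := by
        rw [hmi]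
        group
      _ = m * (a * (m * a * m⁻¹)) := by rw [← h1]
  have hle : B.map (MulAut.conj g⁻¹).toMonoidHom ≤ A := by
    apply w.res
    · rw [← map_commutator, w.perf_dg hs]
    · rintro _ ⟨x, hx, rfl⟩
      show g⁻¹ * x * g⁻¹⁻¹ * t = t * (g⁻¹ * x * g⁻¹⁻¹)
      have h1 := hBm x hx
      rw [hm] at h1
      calc g⁻¹ * x * g⁻¹⁻¹ * t = g⁻¹ * (x * (g * t * g⁻¹)) * g := by group
        _ = g⁻¹ * (g * t * g⁻¹ * x) * g := by rw [h1]
        _ = t * (g⁻¹ * x * g⁻¹⁻¹) := by group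
    · have h2 : closure {x | x ∈ B ∧ ∃ k : ℕ, x ^ 2 ^ k = 1} ≤
          (closure {x | x ∈ B.map (MulAut.conj g⁻¹).toMonoidHom ∧ ∃ k : ℕ, x ^ 2 ^ k = 1}).comap
            (MulAut.conj g⁻¹).toMonoidHom := by
        rw [closure_le]
        rintro y ⟨hy, k, hk⟩
        apply Subgroup.subset_closure
        refine ⟨⟨y, hy, rfl⟩, k, ?_⟩
        rw [← map_pow, hk, map_one]
      rintro _ ⟨x, hx, rfl⟩
      exact h2 (w.gen_dg hs hx)
  have hcard : Nat.card B = Nat.card A := by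
    rw [w.card_A, hB]
    exact (Nat.card_congr (Equiv.ofBijective _ ((w.dg hs).rangeRestrict_injective_iff.2 (w.dg_inj hs)
      |> fun h => ⟨h, (w.dg hs).rangeRestrict_surjective⟩))).symm
  have heq : B.map (MulAut.conj g⁻¹).toMonoidHom = A := by
    apply eq_of_le_of_card_ge hle
    rw [card_map_of_injective (MulAut.conj g⁻¹).injective, hcard]
  intro a ha
  rw [← heq] at ha
  obtain ⟨x, hx, e⟩ := ha
  have e' : g⁻¹ * x * g⁻¹⁻¹ = a := e
  have : g * a * g⁻¹ = x := by rw [← e']; group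
  rw [this]; exact hx

theorem dg_le {m : G} (hm : Swaps A₁ A₂ m) : (w.dg hm).range ≤ A₁ ⊔ A₂ := by
  rintro _ ⟨a, rfl⟩
  exact w.mem_D.2 ⟨a, a.2, _, hm.1 a a.2, rfl⟩

omit w in
theorem conj_sq {g : G} (h : t * t = 1) : (g * t * g⁻¹) * (g * t * g⁻¹) = 1 := by
  calc (g * t * g⁻¹) * (g * t * g⁻¹) = g * (t * t) * g⁻¹ := by group
    _ = 1 := by rw [h]; group

theorem swaps_mul {m d : G} (hd : d ∈ A₁ ⊔ A₂) (hm : Swaps A₁ A₂ m) : Swaps A₁ A₂ (d * m) := by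
  obtain ⟨a, ha, b, hb, rfl⟩ := w.mem_D.1 hd
  have h2 : ∀ c ∈ A₂, a * b * c * (a * b)⁻¹ ∈ A₂ := by
    intro c hc
    have h3 := mul_mem (mul_mem hb hc) (inv_mem hb)
    have : a * b * c * (a * b)⁻¹ = b * c * b⁻¹ := by
      calc a * b * c * (a * b)⁻¹ = a * (b * c * b⁻¹) * a⁻¹ := by group
        _ = (b * c * b⁻¹) * a * a⁻¹ := by rw [w.comm a ha _ h3]
        _ = b * c * b⁻¹ := by group
    rw [this]; exact h3
  have h1 : ∀ c ∈ A₁, a * b * c * (a * b)⁻¹ ∈ A₁ := by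
    intro c hc
    have : a * b * c * (a * b)⁻¹ = a * c * a⁻¹ := by
      calc a * b * c * (a * b)⁻¹ = a * (b * c) * b⁻¹ * a⁻¹ := by group
        _ = a * (c * b) * b⁻¹ * a⁻¹ := by rw [w.comm c hc b hb]
        _ = a * c * a⁻¹ := by group
    rw [this]
    exact mul_mem (mul_mem ha hc) (inv_mem ha)
  refine ⟨fun c hc => ?_, fun c hc => ?_⟩
  · have := h2 _ (hm.1 c hc)
    have e : a * b * m * c * (a * b * m)⁻¹ = a * b * (m * c * m⁻¹) * (a * b)⁻¹ := by group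
    rw [e]; exact this
  · have := h1 _ (hm.2 c hc)
    have e : a * b * m * c * (a * b * m)⁻¹ = a * b * (m * c * m⁻¹) * (a * b)⁻¹ := by group
    rw [e]; exact this

/-- **The swap lemma.** -/
theorem mem_of_swap [Finite G] {g : G} (hs : Swaps A₁ A₂ (g * t * g⁻¹)) :
    ∀ d ∈ A₁ ⊔ A₂, g * d * g⁻¹ ∈ A₁ ⊔ A₂ := by
  have h1 : ∀ a ∈ A, g * a * g⁻¹ ∈ A₁ ⊔ A₂ := fun a ha => w.dg_le hs (w.conj_A hs (conj_sq w.tt) a ha)
  have hti := w.ti
  -- the conjugates of `A` under involutions of `A₁`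
  have h2 : ∀ u ∈ A₁, u * u = 1 → ∀ a ∈ A, g * (u * a * u⁻¹) * g⁻¹ ∈ A₁ ⊔ A₂ := by
    intro u hu huu a ha
    have hui : u⁻¹ = u := inv_eq_of_mul_eq_one_right huu
    have h3 : Swaps A₁ A₂ ((g * u) * t * (g * u)⁻¹) := by
      have e : (g * u) * t * (g * u)⁻¹ = (g * (u * (t * u * t⁻¹)) * g⁻¹) * (g * t * g⁻¹) := by
        calc (g * u) * t * (g * u)⁻¹ = g * (u * (t * u⁻¹ * t⁻¹)) * g⁻¹ * (g * t * g⁻¹) := by group
          _ = _ := by rw [hui]
      rw [e]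
      exact w.swaps_mul (h1 _ (w.diag u hu)) hs
    have h4 := w.dg_le h3 (w.conj_A h3 (conj_sq w.tt) a ha)
    have e : g * u * a * (g * u)⁻¹ = g * (u * a * u⁻¹) * g⁻¹ := by group
    rwa [e] at h4
  -- `K = {d ∈ D | g d g⁻¹ ∈ D}`
  set K : Subgroup G := (A₁ ⊔ A₂).comap (MulAut.conj g).toMonoidHom with hK
  have mK : ∀ {x : G}, x ∈ K ↔ g * x * g⁻¹ ∈ A₁ ⊔ A₂ := Iff.rfl
  -- `K ∩ A₁` is normal in `A₁` and contains the commutators with involutions
  have h5 : A₁ ≤ K := by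
    have hn : ∀ a ∈ A₁, ∀ n ∈ A₁ ⊓ K, a * n * a⁻¹ ∈ A₁ ⊓ K := by
      intro a ha n hn
      obtain ⟨hn1, hn2⟩ := mem_inf.1 hn
      refine mem_inf.2 ⟨mul_mem (mul_mem ha hn1) (inv_mem ha), ?_⟩
      have h6 : a * (t * a * t⁻¹) ∈ K := h1 _ (w.diag a ha)
      have h7 := mul_mem (mul_mem h6 hn2) (inv_mem h6)
      have h8 := w.comm n hn1 _ (w.sw.1 a ha)
      have : a * (t * a * t⁻¹) * n * (a * (t * a * t⁻¹))⁻¹ = a * n * a⁻¹ := by
        calc a * (t * a * t⁻¹) * n * (a * (t * a * t⁻¹))⁻¹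
            = a * ((t * a * t⁻¹) * n) * (t * a * t⁻¹)⁻¹ * a⁻¹ := by group
          _ = a * (n * (t * a * t⁻¹)) * (t * a * t⁻¹)⁻¹ * a⁻¹ := by rw [h8]
          _ = a * n * a⁻¹ := by group
      rwa [this] at h7
    rcases w.simp (A₁ ⊓ K) inf_le_left hn with h6 | h6
    · exfalso
      -- then every involution of `A₁` is central
      have h7 : ∀ u ∈ A₁, u * u = 1 → ∀ a ∈ A₁, u * a = a * u := by
        intro u hu huu a ha
        have h8 := h2 u hu huu _ (w.diag a ha)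
        have h9 : u * (a * (t * a * t⁻¹)) * u⁻¹ ∈ K := h8
        have h10 := mul_mem h9 (inv_mem (show a * (t * a * t⁻¹) ∈ K from h1 _ (w.diag a ha)))
        have e : u * (a * (t * a * t⁻¹)) * u⁻¹ * (a * (t * a * t⁻¹))⁻¹ = u * a * u⁻¹ * a⁻¹ := by
          have c1 := w.comm u⁻¹ (inv_mem hu) _ (w.sw.1 a ha)
          calc u * (a * (t * a * t⁻¹)) * u⁻¹ * (a * (t * a * t⁻¹))⁻¹
              = u * a * ((t * a * t⁻¹) * u⁻¹) * (t * a * t⁻¹)⁻¹ * a⁻¹ := by group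
            _ = u * a * (u⁻¹ * (t * a * t⁻¹)) * (t * a * t⁻¹)⁻¹ * a⁻¹ := by rw [← c1]
            _ = u * a * u⁻¹ * a⁻¹ := by group
        rw [e] at h10
        have h11 : u * a * u⁻¹ * a⁻¹ ∈ A₁ ⊓ K :=
          mem_inf.2 ⟨mul_mem (mul_mem (mul_mem hu ha) (inv_mem hu)) (inv_mem ha), h10⟩
        rw [h6, mem_bot] at h11
        calc u * a = (u * a * u⁻¹ * a⁻¹) * (a * u) := by group
          _ = a * u := by rw [h11, one_mul]
      apply w.ne
      rw [eq_bot_iff]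
      refine w.inv.trans ?_
      rw [closure_le]
      rintro u ⟨hu, huu⟩
      exact mem_bot.2 (w.center₁ hu (h7 u hu huu))
    · exact inf_eq_left.1 h6
  have h6 : A₂ ≤ K := by
    intro b hb
    obtain ⟨a, ha, rfl⟩ := w.mem₂ hb
    have h7 : a * (t * a * t⁻¹) ∈ K := h1 _ (w.diag a ha)
    exact (mul_mem_cancel_left (h5 ha)).1 h7
  exact fun d hd => (sup_le h5 h6) hd

end Wr

end Cfsg.Agent.HexOut
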