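import Mathlib

/-!
# S1778, split case: an involution swapping two commuting simple groups

`t` swaps the commuting simple groups `A₁`, `A₂`, `A` is the diagonal and every perfect subgroup of `C(t)` generated by
2-elements lies in `A` (`A` is the component of `C(t)`).  `D = A₁ A₂`, `M = N_G(D)`.
* `mem_of_swap` : `g t g⁻¹ ∈ M` swapping `A₁` and `A₂` implies `g ∈ M`.
-/

set_option autoImplicit false

namespace Cfsg.Agent.HexOut

open Subgroup
open scoped commutatorElement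

variable {G : Type*} [Group G]

/-- `m` swaps `A₁` and `A₂` -/
def Swaps (A₁ A₂ : Subgroup G) (m : G) : Prop :=
  (∀ a ∈ A₁, m * a * m⁻¹ ∈ A₂) ∧ (∀ a ∈ A₂, m * a * m⁻¹ ∈ A₁)

/-- `m` normalises `A₁` and `A₂` -/
def Keeps (A₁ A₂ : Subgroup G) (m : G) : Prop :=
  (∀ a ∈ A₁, m * a * m⁻¹ ∈ A₁) ∧ (∀ a ∈ A₂, m * a * m⁻¹ ∈ A₂)

/-- The wreath configuration. -/
structure Wr (A A₁ A₂ : Subgroup G) (t : G) : Prop where
  tt : t * t = 1
  comm : ∀ a ∈ A₁, ∀ b ∈ A₂, a * b = b * a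
  inf : ∀ a ∈ A₁, a ∈ A₂ → a = 1
  sw : Swaps A₁ A₂ t
  diag : ∀ a ∈ A₁, a * (t * a * t⁻¹) ∈ A
  of_diag : ∀ a ∈ A, ∃ a₁ ∈ A₁, a = a₁ * (t * a₁ * t⁻¹)
  perf : A₁ ≤ ⁅A₁, A₁⁆
  inv : A₁ ≤ closure {x | x ∈ A₁ ∧ x * x = 1}
  simp : ∀ N ≤ A₁, (∀ a ∈ A₁, ∀ n ∈ N, a * n * a⁻¹ ∈ N) → N = ⊥ ∨ N = A₁
  ne : A₁ ≠ ⊥
  res : ∀ B : Subgroup G, ⁅B, B⁆ = B → (∀ x ∈ B, x * t = t * x) →
    B ≤ closure {x | x ∈ B ∧ ∃ k : ℕ, x ^ 2 ^ k = 1} → B ≤ A

namespace Wr

variable {A A₁ A₂ : Subgroup G} {t : G} (w : Wr A A₁ A₂ t)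

include w

theorem ti : t⁻¹ = t := inv_eq_of_mul_eq_one_right w.tt

theorem tts (a : G) : t * (t * a * t⁻¹) * t⁻¹ = a := by
  rw [w.ti]
  calc t * (t * a * t) * t = (t * t) * a * (t * t) := by group
    _ = a := by rw [w.tt]; group

theorem mem₂ {b : G} (hb : b ∈ A₂) : ∃ a ∈ A₁, b = t * a * t⁻¹ :=
  ⟨t * b * t⁻¹, w.sw.2 b hb, (w.tts b).symm⟩

/-- the normal subgroup `D = A₁ A₂` -/
theorem mem_D {d : G} : d ∈ A₁ ⊔ A₂ ↔ ∃ a ∈ A₁, ∃ b ∈ A₂, d = a * b := by
  constructor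
  · intro h
    let S : Subgroup G :=
      { carrier := {d | ∃ a ∈ A₁, ∃ b ∈ A₂, d = a * b}
        one_mem' := ⟨1, one_mem _, 1, one_mem _, by rw [one_mul]⟩
        mul_mem' := by
          rintro _ _ ⟨a, ha, b, hb, rfl⟩ ⟨a', ha', b', hb', rfl⟩
          refine ⟨a * a', mul_mem ha ha', b * b', mul_mem hb hb', ?_⟩
          calc a * b * (a' * b') = a * (b * a') * b' := by group
            _ = a * (a' * b) * b' := by rw [w.comm a' ha' b hb]
            _ = a * a' * (b * b') := by group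
        inv_mem' := by
          rintro _ ⟨a, ha, b, hb, rfl⟩
          refine ⟨a⁻¹, inv_mem ha, b⁻¹, inv_mem hb, ?_⟩
          rw [mul_inv_rev]
          exact (w.comm a⁻¹ (inv_mem ha) b⁻¹ (inv_mem hb)).symm }
    have h1 : A₁ ⊔ A₂ ≤ S := sup_le (fun a ha => ⟨a, ha, 1, one_mem _, by rw [mul_one]⟩)
      (fun b hb => ⟨1, one_mem _, b, hb, by rw [one_mul]⟩)
    exact h1 h
  · rintro ⟨a, ha, b, hb, rfl⟩
    exact mul_mem (le_sup_left (b := A₂) ha) (le_sup_right (a := A₁) hb)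

theorem uniq {a a' b b' : G} (ha : a ∈ A₁) (ha' : a' ∈ A₁) (hb : b ∈ A₂) (hb' : b' ∈ A₂)
    (e : a * b = a' * b') : a = a' ∧ b = b' := by
  have h1 : a'⁻¹ * a = b' * b⁻¹ := by
    calc a'⁻¹ * a = a'⁻¹ * (a * b) * b⁻¹ := by group
      _ = a'⁻¹ * (a' * b') * b⁻¹ := by rw [e]
      _ = b' * b⁻¹ := by group
  have h2 := w.inf _ (mul_mem (inv_mem ha') ha) (by rw [h1]; exact mul_mem hb' (inv_mem hb))
  have h3 : a = a' := (inv_mul_eq_one.1 h2).symm
  subst h3
  exact ⟨rfl, mul_left_cancel e⟩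

/-- the centre of `A₁` is trivial -/
theorem center₁ {a : G} (ha : a ∈ A₁) (hc : ∀ b ∈ A₁, a * b = b * a) : a = 1 := by
  have h1 := w.simp (A₁ ⊓ centralizer (A₁ : Set G)) inf_le_left (by
    intro c hc n hn
    have hn2 := (mem_inf.1 hn).2
    have h2 := mem_centralizer_iff.1 hn2 c hc
    have : c * n * c⁻¹ = n := by rw [h2]; group
    rw [this]; exact hn)
  rcases h1 with h1 | h1
  · have : a ∈ A₁ ⊓ centralizer (A₁ : Set G) := ⟨ha, mem_centralizer_iff.2 fun b hb => (hc b hb).symm⟩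
    rw [h1, mem_bot] at this
    exact this
  · exfalso
    apply w.ne
    have h2 : ⁅A₁, A₁⁆ = ⊥ := by
      rw [commutator_eq_bot_iff_le_centralizer]
      exact inf_eq_left.1 h1
    rw [← le_bot_iff, ← h2]
    exact w.perf

theorem symm : Wr A A₂ A₁ t where
  tt := w.tt
  comm a ha b hb := (w.comm b hb a ha).symm
  inf a ha hb := w.inf a hb ha
  sw := ⟨w.sw.2, w.sw.1⟩
  diag a ha := by
    have h1 := w.diag _ (w.sw.2 a ha)
    rw [w.tts] at h1
    rwa [w.comm _ (w.sw.2 a ha) a ha] at h1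
  of_diag a ha := by
    obtain ⟨b, hb, e⟩ := w.of_diag a ha
    refine ⟨t * b * t⁻¹, w.sw.1 b hb, ?_⟩
    rw [w.tts, e, w.comm b hb _ (w.sw.1 b hb)]
  perf := by
    have h1 : A₂ = A₁.map (MulAut.conj t).toMonoidHom := by
      ext b
      constructor
      · intro hb
        obtain ⟨a, ha, e⟩ := w.mem₂ hb
        exact ⟨a, ha, e.symm⟩
      · rintro ⟨a, ha, rfl⟩
        exact w.sw.1 a ha
    rw [h1, ← map_commutator]
    exact map_mono w.perf
  inv := by
    intro b hb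
    obtain ⟨a, ha, rfl⟩ := w.mem₂ hb
    have h1 : closure {x | x ∈ A₁ ∧ x * x = 1} ≤
        (closure {x | x ∈ A₂ ∧ x * x = 1}).comap (MulAut.conj t).toMonoidHom := by
      rw [closure_le]
      rintro x ⟨hx, hxx⟩
      apply Subgroup.subset_closure
      refine ⟨w.sw.1 x hx, ?_⟩
      show t * x * t⁻¹ * (t * x * t⁻¹) = 1
      calc t * x * t⁻¹ * (t * x * t⁻¹) = t * (x * x) * t⁻¹ := by group
        _ = 1 := by rw [hxx]; group
    exact h1 (w.inv ha)
  simp := by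
    intro N hN hn
    have key := w.simp (N.map (MulAut.conj t).toMonoidHom) (by
      rintro _ ⟨n, hn', rfl⟩
      exact w.sw.2 n (hN hn')) (by
      rintro a ha _ ⟨n, hn', rfl⟩
      refine ⟨(t * a * t⁻¹) * n * (t * a * t⁻¹)⁻¹, hn _ (w.sw.1 a ha) n hn', ?_⟩
      show t * ((t * a * t⁻¹) * n * (t * a * t⁻¹)⁻¹) * t⁻¹ = a * (t * n * t⁻¹) * a⁻¹
      have hti := w.ti
      calc t * ((t * a * t⁻¹) * n * (t * a * t⁻¹)⁻¹) * t⁻¹
          = (t * t) * a * (t⁻¹ * n * t) * a⁻¹ * (t * t)⁻¹ := by group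
        _ = a * (t * n * t⁻¹) * a⁻¹ := by rw [w.tt, hti]; group)
    have inj : ∀ N' : Subgroup G, (N'.map (MulAut.conj t).toMonoidHom).map (MulAut.conj t).toMonoidHom = N' := by
      intro N'
      ext x
      constructor
      · rintro ⟨_, ⟨n, hn, rfl⟩, rfl⟩
        have := w.tts n
        show t * (t * n * t⁻¹) * t⁻¹ ∈ N'
        rw [this]; exact hn
      · intro hx
        exact ⟨_, ⟨x, hx, rfl⟩, w.tts x⟩
    rcases key with h | h
    · left
      rw [← inj N, h, Subgroup.map_bot]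
    · right
      rw [← inj N, h]
      ext b
      constructor
      · rintro ⟨a, ha, rfl⟩
        exact w.sw.1 a ha
      · intro hb
        obtain ⟨a, ha, e⟩ := w.mem₂ hb
        exact ⟨a, ha, e.symm⟩
  ne := by
    intro h
    apply w.ne
    rw [eq_bot_iff]
    intro a ha
    have h1 := w.sw.1 a ha
    rw [h, mem_bot] at h1
    rw [mem_bot]
    calc a = t⁻¹ * (t * a * t⁻¹) * t := by group
      _ = 1 := by rw [h1]; group
  res := w.res

theorem center₂ {a : G} (ha : a ∈ A₂) (hc : ∀ b ∈ A₂, a * b = b * a) : a = 1 := w.symm.center₁ ha hc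

/-- an element of `D` centralising `D` is trivial -/
theorem center_D {d : G} (hd : d ∈ A₁ ⊔ A₂) (hc : ∀ x ∈ A₁ ⊔ A₂, d * x = x * d) : d = 1 := by
  obtain ⟨a, ha, b, hb, rfl⟩ := w.mem_D.1 hd
  have h1 : a = 1 := w.center₁ ha (fun c hc' => by
    have h2 := hc c (le_sup_left (b := A₂) hc')
    have h3 : a * c * b = c * a * b := by
      calc a * c * b = a * (c * b) := by group
        _ = a * (b * c) := by rw [w.comm c hc' b hb]
        _ = a * b * c := by group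
        _ = c * (a * b) := h2
        _ = c * a * b := by group
    exact mul_right_cancel h3)
  have h2 : b = 1 := w.center₂ hb (fun c hc' => by
    have h2 := hc c (le_sup_right (a := A₁) hc')
    rw [h1, one_mul] at h2
    exact h2)
  rw [h1, h2, one_mul]

theorem card_eq : Nat.card A₂ = Nat.card A₁ := by
  refine (Nat.card_congr (Equiv.ofBijective (fun a : A₁ => (⟨t * a * t⁻¹, w.sw.1 a a.2⟩ : A₂)) ⟨?_, ?_⟩)).symm
  · intro a b hab
    have h1 : t * (a : G) * t⁻¹ = t * b * t⁻¹ := congrArg Subtype.val hab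
    exact Subtype.ext (mul_left_cancel (mul_right_cancel h1))
  · intro b
    obtain ⟨a, ha, e⟩ := w.mem₂ b.2
    exact ⟨⟨a, ha⟩, Subtype.ext e.symm⟩

theorem card_A : Nat.card A = Nat.card A₁ := by
  refine (Nat.card_congr (Equiv.ofBijective (fun a : A₁ => (⟨a * (t * a * t⁻¹), w.diag a a.2⟩ : A)) ⟨?_, ?_⟩)).symm
  · intro a b hab
    have h1 : (a : G) * (t * a * t⁻¹) = b * (t * b * t⁻¹) := congrArg Subtype.val hab
    exact Subtype.ext (w.uniq a.2 b.2 (w.sw.1 a a.2) (w.sw.1 b b.2) h1).1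
  · intro a
    obtain ⟨b, hb, e⟩ := w.of_diag a a.2
    exact ⟨⟨b, hb⟩, Subtype.ext e.symm⟩

theorem A_le : A ≤ A₁ ⊔ A₂ := by
  intro a ha
  obtain ⟨b, hb, rfl⟩ := w.of_diag a ha
  exact w.mem_D.2 ⟨b, hb, _, w.sw.1 b hb, rfl⟩

/-- every element normalising `D` preserves or swaps the two factors -/
theorem keeps_or [Finite G] {m : G} (hm : ∀ d ∈ A₁ ⊔ A₂, m * d * m⁻¹ ∈ A₁ ⊔ A₂) :
    Keeps A₁ A₂ m ∨ Swaps A₁ A₂ m := by
  have hfin : ∀ {B C : Subgroup G}, (∀ b ∈ B, m * b * m⁻¹ ∈ C) → Nat.card C = Nat.card B →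
      ∀ c ∈ C, m⁻¹ * c * m ∈ B := by
    intro B C h1 h2 c hc
    have h3 : B.map (MulAut.conj m).toMonoidHom = C := by
      apply eq_of_le_of_card_ge
      · rintro _ ⟨b, hb, rfl⟩
        exact h1 b hb
      · rw [h2, card_map_of_injective (MulAut.conj m).injective]
    rw [← h3] at hc
    obtain ⟨b, hb, e⟩ := hc
    have e' : m * b * m⁻¹ = c := e
    have : m⁻¹ * c * m = b := by rw [← e']; group
    rw [this]; exact hb
  have hmi : ∀ d ∈ A₁ ⊔ A₂, m⁻¹ * d * m ∈ A₁ ⊔ A₂ := hfin hm rfl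
  -- one factor at a time
  have key : ∀ {X Y : Subgroup G}, Wr A X Y t → X ⊔ Y = A₁ ⊔ A₂ → Nat.card X = Nat.card A₁ → Nat.card Y = Nat.card A₁ →
      (∀ a ∈ X, m * a * m⁻¹ ∈ X) ∨ (∀ a ∈ X, m * a * m⁻¹ ∈ Y) := by
    intro X Y v hXY hX hY
    set B := X.map (MulAut.conj m).toMonoidHom with hB
    have hBD : B ≤ X ⊔ Y := by
      rintro _ ⟨a, ha, rfl⟩
      rw [hXY]
      exact hm a (by rw [← hXY]; exact le_sup_left (b := Y) ha)
    have hBn : ∀ d ∈ X ⊔ Y, ∀ b ∈ B, d * b * d⁻¹ ∈ B := by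
      rintro d hd _ ⟨a, ha, rfl⟩
      have h1 : m⁻¹ * d * m ∈ X ⊔ Y := by rw [hXY] at hd ⊢; exact hmi d hd
      obtain ⟨c, hc, c', hc', e⟩ := v.mem_D.1 h1
      refine ⟨(m⁻¹ * d * m) * a * (m⁻¹ * d * m)⁻¹, ?_, ?_⟩
      · rw [e]
        have : c * c' * a * (c * c')⁻¹ = c * a * c⁻¹ := by
          calc c * c' * a * (c * c')⁻¹ = c * (c' * a) * c'⁻¹ * c⁻¹ := by group
            _ = c * (a * c') * c'⁻¹ * c⁻¹ := by rw [v.comm a ha c' hc']
            _ = c * a * c⁻¹ := by group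
        rw [this]
        exact mul_mem (mul_mem hc ha) (inv_mem hc)
      · show m * ((m⁻¹ * d * m) * a * (m⁻¹ * d * m)⁻¹) * m⁻¹ = d * (m * a * m⁻¹) * d⁻¹
        group
    have hcB : Nat.card B = Nat.card A₁ := by
      rw [hB, card_map_of_injective (MulAut.conj m).injective, hX]
    have hBX := v.simp (X ⊓ B) inf_le_left (fun a ha n hn =>
      mem_inf.2 ⟨mul_mem (mul_mem ha (mem_inf.1 hn).1) (inv_mem ha), hBn a (le_sup_left (b := Y) ha) n (mem_inf.1 hn).2⟩)
    have hBY := v.symm.simp (Y ⊓ B) inf_le_left (fun a ha n hn =>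
      mem_inf.2 ⟨mul_mem (mul_mem ha (mem_inf.1 hn).1) (inv_mem ha), hBn a (le_sup_right (a := X) ha) n (mem_inf.1 hn).2⟩)
    rcases hBX with hBX | hBX
    · rcases hBY with hBY | hBY
      · exfalso
        have h1 : ∀ b ∈ B, b = 1 := by
          intro b hb
          apply v.center_D (hBD hb)
          intro x hx
          have hcl : ∀ c, (c ∈ X ∨ c ∈ Y) → b * c = c * b := by
            intro c hc
            have h2 : c * b * c⁻¹ * b⁻¹ ∈ B := mul_mem (hBn c (by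
              rcases hc with hc | hc
              · exact le_sup_left (b := Y) hc
              · exact le_sup_right (a := X) hc) b hb) (inv_mem hb)
            have h3 : c * b * c⁻¹ * b⁻¹ ∈ X ∨ c * b * c⁻¹ * b⁻¹ ∈ Y := by
              obtain ⟨x₁, hx₁, y₁, hy₁, e⟩ := v.mem_D.1 (hBD hb)
              rcases hc with hc | hc
              · left
                have : c * b * c⁻¹ * b⁻¹ = c * x₁ * c⁻¹ * x₁⁻¹ := by
                  have h4 := v.comm c⁻¹ (inv_mem hc) y₁ hy₁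
                  rw [e]
                  calc c * (x₁ * y₁) * c⁻¹ * (x₁ * y₁)⁻¹ = c * x₁ * (y₁ * c⁻¹) * y₁⁻¹ * x₁⁻¹ := by group
                    _ = c * x₁ * (c⁻¹ * y₁) * y₁⁻¹ * x₁⁻¹ := by rw [h4]
                    _ = c * x₁ * c⁻¹ * x₁⁻¹ := by group
                rw [this]
                exact mul_mem (mul_mem (mul_mem hc hx₁) (inv_mem hc)) (inv_mem hx₁)
              · right
                have : c * b * c⁻¹ * b⁻¹ = c * y₁ * c⁻¹ * y₁⁻¹ := by
                  have h4 := v.comm x₁ hx₁ c hc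
                  have h5 := v.comm x₁ hx₁ (c * y₁ * c⁻¹ * y₁⁻¹)
                    (mul_mem (mul_mem (mul_mem hc hy₁) (inv_mem hc)) (inv_mem hy₁))
                  rw [e]
                  calc c * (x₁ * y₁) * c⁻¹ * (x₁ * y₁)⁻¹ = (c * x₁) * y₁ * c⁻¹ * y₁⁻¹ * x₁⁻¹ := by group
                    _ = (x₁ * c) * y₁ * c⁻¹ * y₁⁻¹ * x₁⁻¹ := by rw [h4]
                    _ = x₁ * (c * y₁ * c⁻¹ * y₁⁻¹) * x₁⁻¹ := by group
                    _ = (c * y₁ * c⁻¹ * y₁⁻¹) * x₁ * x₁⁻¹ := by rw [h5]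
                    _ = c * y₁ * c⁻¹ * y₁⁻¹ := by group
                rw [this]
                exact mul_mem (mul_mem (mul_mem hc hy₁) (inv_mem hc)) (inv_mem hy₁)
            have h6 : c * b * c⁻¹ * b⁻¹ = 1 := by
              rcases h3 with h3 | h3
              · have : c * b * c⁻¹ * b⁻¹ ∈ X ⊓ B := ⟨h3, h2⟩
                rwa [hBX, mem_bot] at this
              · have : c * b * c⁻¹ * b⁻¹ ∈ Y ⊓ B := ⟨h3, h2⟩
                rwa [hBY, mem_bot] at this
            calc b * c = (c * b * c⁻¹ * b⁻¹)⁻¹ * (c * b) := by group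
              _ = c * b := by rw [h6]; group
          obtain ⟨x₁, hx₁, y₁, hy₁, rfl⟩ := v.mem_D.1 hx
          calc b * (x₁ * y₁) = (b * x₁) * y₁ := by group
            _ = x₁ * (b * y₁) := by rw [hcl x₁ (Or.inl hx₁)]; group
            _ = x₁ * y₁ * b := by rw [hcl y₁ (Or.inr hy₁)]; group
        apply v.ne
        rw [eq_bot_iff]
        intro a ha
        have h2 := h1 (m * a * m⁻¹) ⟨a, ha, rfl⟩
        rw [mem_bot]
        calc a = m⁻¹ * (m * a * m⁻¹) * m := by group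
          _ = 1 := by rw [h2]; group
      · right
        have h1 : Y = B := by
          apply eq_of_le_of_card_ge (inf_eq_left.1 hBY)
          rw [hcB, hY]
        intro a ha
        rw [h1]
        exact ⟨a, ha, rfl⟩
    · left
      have h1 : X = B := by
        apply eq_of_le_of_card_ge (inf_eq_left.1 hBX)
        rw [hcB, hX]
      intro a ha
      have h2 : m * a * m⁻¹ ∈ B := ⟨a, ha, rfl⟩
      rw [← h1] at h2
      exact h2
  have k1 := key w rfl rfl w.card_eq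
  have k2 := key w.symm (sup_comm _ _) w.card_eq rfl
  rcases k1 with k1 | k1
  · rcases k2 with k2 | k2
    · exact Or.inl ⟨k1, k2⟩
    · exfalso
      have h1 := hfin k1 rfl
      apply w.symm.ne
      rw [eq_bot_iff]
      intro b hb
      have h2 := h1 _ (k2 b hb)
      have : m⁻¹ * (m * b * m⁻¹) * m = b := by group
      rw [this] at h2
      exact mem_bot.2 (w.inf b h2 hb)
  · rcases k2 with k2 | k2
    · exfalso
      have h1 := hfin k2 rfl
      apply w.ne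
      rw [eq_bot_iff]
      intro b hb
      have h2 := h1 _ (k1 b hb)
      have : m⁻¹ * (m * b * m⁻¹) * m = b := by group
      rw [this] at h2
      exact mem_bot.2 (w.inf b hb h2)
    · exact Or.inr ⟨k1, k2⟩

end Wr

end Cfsg.Agent.HexOut
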